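import Groth.Agent.Lib.AzType29.Main
import Groth.Agent.Lib.Brauer25.SymSkew
import Groth.Agent.Lib.Azumaya.Spread

/-!
# The type on the ramification locus
-/

set_option autoImplicit false
set_option linter.style.haveILetI false

universe u v w

open Matrix Groth.Agent Groth.Agent.Brauer25.SplitMap
open scoped TensorProduct
open Module (rankAtStalk finrank)

namespace AzType29

variable {R : Type v} [CommRing R] {A : Type w} [Ring A] [Algebra R A] {lam : R → R}
variable (T : Type v) [CommRing T] [Algebra R T] (t : AzInv.LamInv R A lam)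
  (hT : ∀ r, algebraMap R T (lam r) = algebraMap R T r)

/-- base change of a semilinear involution along a map equalizing `lam` and the identity -/
noncomputable def bcAdd : T ⊗[R] A →+ T ⊗[R] A :=
  TensorProduct.liftAddHom
    (AddMonoidHom.mk' (fun s => ((TensorProduct.mk R T A s).toAddMonoidHom).comp t.toAddMonoidHom)
      fun a b => by ext x; exact TensorProduct.add_tmul a b (t x))
    fun r s a => by
      show (r • s) ⊗ₜ[R] t a = s ⊗ₜ[R] t (r • a)
      rw [t.map_smul, TensorProduct.tmul_smul, TensorProduct.smul_tmul', Algebra.smul_def, Algebra.smul_def, hT]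

theorem bcAdd_tmul (s : T) (a : A) : bcAdd T t hT (s ⊗ₜ a) = s ⊗ₜ t a := TensorProduct.liftAddHom_tmul _ _ _ _

/-- the induced involution of the first kind -/
noncomputable def bcInv : AzInv.LamInv T (T ⊗[R] A) (id : T → T) where
  toFun := bcAdd T t hT
  map_add' := map_add _
  map_mul' x y := by
    induction x using TensorProduct.induction_on with
    | zero => simp
    | add x z hx hz => rw [add_mul, map_add, map_add, hx, hz, mul_add]
    | tmul s a =>
      induction y using TensorProduct.induction_on with
      | zero => simp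
      | add y z hy hz => rw [mul_add, map_add, map_add, hy, hz, add_mul]
      | tmul s' a' =>
        rw [Algebra.TensorProduct.tmul_mul_tmul, bcAdd_tmul, bcAdd_tmul, bcAdd_tmul,
          Algebra.TensorProduct.tmul_mul_tmul, t.map_mul, mul_comm s s']
  map_smul' c x := by
    induction x using TensorProduct.induction_on with
    | zero => simp
    | add x z hx hz => rw [smul_add, map_add, map_add, hx, hz, smul_add]
    | tmul s a => rw [TensorProduct.smul_tmul', bcAdd_tmul, bcAdd_tmul, id_eq, TensorProduct.smul_tmul']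
  invol' x := by
    induction x using TensorProduct.induction_on with
    | zero => simp
    | add x z hx hz => rw [map_add, map_add, hx, hz]
    | tmul s a => rw [bcAdd_tmul, bcAdd_tmul, t.invol]

theorem bcInv_tmul (s : T) (a : A) : bcInv T t hT (s ⊗ₜ a) = s ⊗ₜ t a := bcAdd_tmul T t hT s a

variable {T}

open scoped Classical in
/-- dimension of the symmetric part at a point with known sign -/
theorem finrank_span_sym [Module.Finite R A] [Module.Projective R A] {n : ℕ}
    (hrk : ∀ p : PrimeSpectrum R, rankAtStalk (R := R) A p = n ^ 2) {k : Type v} [Field k] [Algebra R k]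
    (hk : ∀ r, algebraMap R k (lam r) = algebraMap R k r) (h2 : IsUnit (2 : R))
    (L : Type v) [Field L] [Algebra k L] [Algebra R L] [IsScalarTower R k L]
    {F : A →ₐ[R] Matrix (Fin n) (Fin n) L} (hF : IsSplitting F) {u : Matrix (Fin n) (Fin n) L} {ε : L}
    (hu : Twist t F u ε) (hε : ε = 1 ∨ ε = -1) :
    finrank k (Submodule.span k (Set.range fun a : {a : A // t a = a} => (1 : k) ⊗ₜ[R] (a : A))) =
      if ε = 1 then Nat.choose (n + 1) 2 else Nat.choose n 2 := by
  classical
  let s : k ⊗[R] A →ₗ[k] k ⊗[R] A :=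
    { toFun := bcAdd k t hk
      map_add' := map_add _
      map_smul' := fun c x => (bcInv k t hk).map_smul c x }
  have hs : ∀ c a, s (c ⊗ₜ a) = c ⊗ₜ t a := bcAdd_tmul k t hk
  obtain ⟨w, hw⟩ := h2.exists_left_inv
  have hspan : Submodule.span k (Set.range fun a : {a : A // t a = a} => (1 : k) ⊗ₜ[R] (a : A)) =
      LinearMap.ker (s + (-1 : k) • LinearMap.id) := by
    refine le_antisymm (Submodule.span_le.2 ?_) fun x hx => ?_
    · rintro _ ⟨⟨a, ha⟩, rfl⟩
      rw [SetLike.mem_coe, LinearMap.mem_ker, LinearMap.add_apply, LinearMap.smul_apply, LinearMap.id_apply,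
        hs, ha, neg_one_smul, add_neg_cancel]
    · rw [LinearMap.mem_ker, LinearMap.add_apply, LinearMap.smul_apply, LinearMap.id_apply, neg_one_smul,
        ← sub_eq_add_neg, sub_eq_zero] at hx
      have hx2 : algebraMap R k w • (x + s x) = x := by
        rw [hx, ← two_smul k x, smul_smul, ← map_ofNat (algebraMap R k) 2, ← map_mul, hw, map_one, one_smul]
      rw [← hx2]
      refine Submodule.smul_mem _ _ ?_
      clear hx hx2
      induction x using TensorProduct.induction_on with
      | zero => simp
      | add x y hx hy => rw [map_add, add_add_add_comm]; exact add_mem hx hy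
      | tmul c a =>
        rw [hs, ← TensorProduct.tmul_add, show c ⊗ₜ[R] (a + t a) = c • ((1 : k) ⊗ₜ[R] (a + t a)) by
          rw [TensorProduct.smul_tmul', smul_eq_mul, mul_one]]
        exact Submodule.smul_mem _ _ (Submodule.subset_span ⟨⟨a + t a, by rw [t.map_add, t.invol, add_comm]⟩, rfl⟩)
  let c := Groth.Agent.Azumaya.cancelBC R k L A
  let eF := AlgEquiv.ofBijective (ext F) (ext_bijective hrk hF)
  let e : L ⊗[k] (k ⊗[R] A) ≃ₐ[L] Matrix (Fin n) (Fin n) L := c.trans eF
  have hε2 : ε * ε = 1 := by rcases hε with rfl | rfl <;> simp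
  have hS : (u⁻¹)ᵀ = ε • u⁻¹ := by
    rw [Matrix.transpose_nonsing_inv, hu.symm]
    exact Matrix.inv_eq_left_inv (by
      rw [Matrix.smul_mul, Matrix.mul_smul, smul_smul, hε2, one_smul, Matrix.nonsing_inv_mul _ hu.unit])
  have htmul : ∀ (l : L) (a : A), e (l ⊗ₜ[k] ((1 : k) ⊗ₜ[R] a)) = l • F a := fun l a => by
    show ext F (c (l ⊗ₜ[k] ((1 : k) ⊗ₜ[R] a))) = _
    rw [show c (l ⊗ₜ[k] ((1 : k) ⊗ₜ[R] a)) = l ⊗ₜ[R] a by
      apply c.symm.injective
      rw [AlgEquiv.symm_apply_apply]
      simp only [c, Groth.Agent.Azumaya.cancelBC, AlgEquiv.symm_symm]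
      exact (TensorProduct.AlgebraTensorModule.cancelBaseChange_symm_tmul R k L l a).symm, ext_tmul]
  have he : ∀ x, e (LinearMap.baseChange L s x) = (u⁻¹)⁻¹ * (e x).transpose * u⁻¹ := by
    intro x
    rw [Matrix.nonsing_inv_nonsing_inv u hu.unit]
    induction x using TensorProduct.induction_on with
    | zero => simp
    | add x y hx hy => simp only [map_add, hx, hy, Matrix.transpose_add, Matrix.mul_add, Matrix.add_mul]
    | tmul l z =>
      induction z using TensorProduct.induction_on with
      | zero => simp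
      | add z z' hz hz' =>
        rw [LinearMap.baseChange_tmul] at hz hz' ⊢
        simp only [TensorProduct.tmul_add, map_add, hz, hz', Matrix.transpose_add, Matrix.mul_add, Matrix.add_mul]
      | tmul d a =>
        rw [LinearMap.baseChange_tmul, show d ⊗ₜ[R] a = d • ((1 : k) ⊗ₜ[R] a) by
          rw [TensorProduct.smul_tmul', smul_eq_mul, mul_one], map_smul, hs, ← TensorProduct.smul_tmul,
          ← TensorProduct.smul_tmul, htmul, htmul, Matrix.transpose_smul, Matrix.mul_smul, Matrix.smul_mul,
          ← hu.eq, Matrix.mul_nonsing_inv_cancel_right _ _ hu.unit]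
  have h := Groth.Agent.Brauer25.finrank_ker_eq L e u⁻¹
    ((Matrix.isUnit_iff_isUnit_det _).2 (Matrix.isUnit_nonsing_inv_det _ hu.unit)) ε hε2 hS s he (-1)
  rw [hspan, h]
  have h2L : (2 : L) ≠ 0 := (isUnit_two_map (algebraMap R L) h2).ne_zero
  rcases hε with rfl | rfl
  · rw [if_pos rfl, map_neg, map_one, one_mul, show (-1 : L) • (LinearMap.id : Matrix (Fin n) (Fin n) L →ₗ[L] _) = -LinearMap.id from by ext; simp, ← sub_eq_add_neg,
      Groth.Agent.Brauer25.finrank_symmetric]
  · have hne : ¬ (-1 : L) = 1 := fun h => h2L (by linear_combination -h)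
    rw [if_neg hne, map_neg, map_one, neg_one_mul, neg_neg, one_smul,
      Groth.Agent.Brauer25.finrank_skew L h2L]

/-- the type is locally constant on the ramification locus -/
theorem locallyConstant_type {n : ℕ} (hA : AzInv.IsAzumayaDeg R A n) (hn : 0 < n) (h2 : IsUnit (2 : R))
    (q : PrimeSpectrum R) (hq : ∀ r, lam r - r ∈ q.asIdeal) :
    ∃ f : R, f ∉ q.asIdeal ∧ ∀ q' : PrimeSpectrum R, (∀ r : R, lam r - r ∈ q'.asIdeal) → f ∉ q'.asIdeal →
      (finrank q'.asIdeal.ResidueField
          (Submodule.span q'.asIdeal.ResidueField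
            (Set.range fun a : {a : A // t a = a} => (1 : q'.asIdeal.ResidueField) ⊗ₜ[R] (a : A))) = Nat.choose (n + 1) 2 ↔
        finrank q.asIdeal.ResidueField
            (Submodule.span q.asIdeal.ResidueField
              (Set.range fun a : {a : A // t a = a} => (1 : q.asIdeal.ResidueField) ⊗ₜ[R] (a : A))) = Nat.choose (n + 1) 2) := by
  classical
  haveI := hA.1
  let I : Ideal R := Ideal.span (Set.range fun r => lam r - r)
  let T := R ⧸ I
  have hT : ∀ r, algebraMap R T (lam r) = algebraMap R T r := fun r =>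
    (Ideal.Quotient.eq).2 (Ideal.subset_span ⟨r, rfl⟩)
  obtain ⟨S0, _, _, _, _, F0, hF0⟩ := exists_etale_split' (A := A) hA
  let FT : T ⊗[R] A →ₐ[T] Matrix (Fin n) (Fin n) (T ⊗[R] S0) :=
    Algebra.TensorProduct.lift (Algebra.ofId T _)
      (push (Algebra.TensorProduct.includeRight : S0 →ₐ[R] T ⊗[R] S0) F0) fun x y => Algebra.commutes x _
  have hFT : IsSplitting FT := by
    refine eq_top_iff.2 ?_
    rw [← isSplitting_push (Algebra.TensorProduct.includeRight : S0 →ₐ[R] T ⊗[R] S0) hF0]
    refine Submodule.span_mono ?_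
    rintro _ ⟨a, rfl⟩
    exact ⟨1 ⊗ₜ a, by simp only [FT]; erw [Algebra.TensorProduct.lift_tmul]; rw [map_one, one_mul]⟩
  have hrkT : ∀ p : PrimeSpectrum T, rankAtStalk (R := T) (T ⊗[R] A) p = n ^ 2 := fun p => by
    rw [Module.rankAtStalk_baseChange]; exact hA.2 _
  obtain ⟨W, _, _, _, hFF, G, u, ε, hG, hu, hε⟩ :=
    exists_twist_cover hrkT hn (fun _ => rfl) (bcInv T t hT) hFT
  obtain ⟨r, rfl⟩ := hu.descend hrkT hn hG
  obtain ⟨rr, hrr⟩ := Ideal.Quotient.mk_surjective r
  have point : ∀ q' : PrimeSpectrum R, (∀ r : R, lam r - r ∈ q'.asIdeal) →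
      (algebraMap R q'.asIdeal.ResidueField rr = 1 ∨ algebraMap R q'.asIdeal.ResidueField rr = -1) ∧
      (finrank q'.asIdeal.ResidueField
          (Submodule.span q'.asIdeal.ResidueField
            (Set.range fun a : {a : A // t a = a} => (1 : q'.asIdeal.ResidueField) ⊗ₜ[R] (a : A))) = Nat.choose (n + 1) 2 ↔
        algebraMap R q'.asIdeal.ResidueField rr = 1) := by
    intro q' hq'
    let k := q'.asIdeal.ResidueField
    have hI : ∀ a ∈ I, algebraMap R k a = 0 := fun a ha =>
      Ideal.algebraMap_residueField_eq_zero.2 ((Ideal.span_le.2 (by rintro _ ⟨x, rfl⟩; exact hq' x)) ha)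
    have hk : ∀ x, algebraMap R k (lam x) = algebraMap R k x := fun x =>
      sub_eq_zero.1 ((map_sub _ _ _).symm.trans (Ideal.algebraMap_residueField_eq_zero.2 (hq' x)))
    letI : Algebra T k := (Ideal.Quotient.lift I (algebraMap R k) hI).toAlgebra
    haveI : IsScalarTower R T k := IsScalarTower.of_algebraMap_eq fun x => rfl
    haveI : Nontrivial (k ⊗[T] W) :=
      (algebraMap_injective_of_faithfullyFlat (R := k) (S := k ⊗[T] W)).nontrivial
    obtain ⟨m, hm⟩ := Ideal.exists_maximal (k ⊗[T] W)
    let L := (k ⊗[T] W) ⧸ m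
    letI : Field L := Ideal.Quotient.field m
    let j : W →ₐ[T] L := (Ideal.Quotient.mkₐ T m).comp Algebra.TensorProduct.includeRight
    let F : A →ₐ[R] Matrix (Fin n) (Fin n) L :=
      ((push j G).restrictScalars R).comp Algebra.TensorProduct.includeRight
    have hF : IsSplitting F := by
      refine eq_top_iff.2 ?_
      rw [← isSplitting_push j hG, Submodule.span_le]
      rintro _ ⟨x, rfl⟩
      induction x using TensorProduct.induction_on with
      | zero => rw [map_zero]; exact zero_mem _
      | add x y hx hy => rw [map_add]; exact add_mem hx hy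
      | tmul c a =>
        rw [show c ⊗ₜ[R] a = c • ((1 : T) ⊗ₜ[R] a) by rw [TensorProduct.smul_tmul', smul_eq_mul, mul_one],
          map_smul, ← algebraMap_smul L c]
        exact Submodule.smul_mem _ _ (Submodule.subset_span ⟨a, rfl⟩)
    have hu' : Twist t F (u.map j) (j (algebraMap T W r)) :=
      { unit := (hu.push j).unit
        eq := fun a => by
          have h := (hu.push j).eq ((1 : T) ⊗ₜ[R] a)
          rw [bcInv_tmul] at h
          exact h
        symm := (hu.push j).symm }
    have hε' : j (algebraMap T W r) = algebraMap k L (algebraMap R k rr) := by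
      rw [j.commutes, ← hrr, IsScalarTower.algebraMap_apply T k L]
      rfl
    have hsq : (j (algebraMap T W r)) * (j (algebraMap T W r)) = 1 := by rw [← map_mul, hε, map_one]
    have hinjL : Function.Injective (algebraMap k L) := (algebraMap k L).injective
    have hcases : j (algebraMap T W r) = 1 ∨ j (algebraMap T W r) = -1 := mul_self_eq_one_iff.1 hsq
    have hr1 : algebraMap R k rr = 1 ↔ j (algebraMap T W r) = 1 := by
      rw [hε', ← hinjL.eq_iff, map_one]
    refine ⟨hcases.imp hr1.2 fun h => hinjL (by rw [← hε', h, map_neg, map_one]), ?_⟩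
    rw [finrank_span_sym t hA.2 hk h2 L hF hu' hcases, hr1]
    split_ifs with hc
    · simp [hc]
    · refine iff_of_false (fun h => ?_) hc
      rw [show (n + 1).choose 2 = n + n.choose 2 by rw [Nat.choose_succ_succ', Nat.choose_one_right]] at h
      omega
  obtain ⟨hq1, hq2⟩ := point q hq
  have h2q : ∀ q' : PrimeSpectrum R, (2 : q'.asIdeal.ResidueField) ≠ 0 := fun q' =>
    (isUnit_two_map (algebraMap R q'.asIdeal.ResidueField) h2).ne_zero
  rcases hq1 with h1 | h1
  · refine ⟨1 + rr, fun h => h2q q ?_, fun q' hq' hf => ?_⟩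
    · have := Ideal.algebraMap_residueField_eq_zero.2 h
      rw [map_add, map_one, h1] at this
      linear_combination this
    · obtain ⟨hq'1, hq'2⟩ := point q' hq'
      refine hq'2.trans (iff_of_true (hq'1.resolve_right fun h => hf ?_) (hq2.2 h1))
      exact Ideal.algebraMap_residueField_eq_zero.1 (by rw [map_add, map_one, h]; ring)
  · refine ⟨1 - rr, fun h => h2q q ?_, fun q' hq' hf => ?_⟩
    · have := Ideal.algebraMap_residueField_eq_zero.2 h
      rw [map_sub, map_one, h1] at this
      linear_combination this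
    · obtain ⟨hq'1, hq'2⟩ := point q' hq'
      refine hq'2.trans (iff_of_false (fun h => hf ?_) fun h => h2q q ?_)
      · exact Ideal.algebraMap_residueField_eq_zero.1 (by rw [map_sub, map_one, h, sub_self])
      · rw [hq2.1 h] at h1
        linear_combination h1

end AzType29
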