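import Groth.Agent.Lib.AzType29.Cover

/-!
# Normal forms of symmetric and alternating invertible matrices
-/

set_option autoImplicit false
set_option linter.style.haveILetI false

universe u

open Matrix

namespace AzType29

variable {R : Type u} [CommRing R]
variable {ι κ : Type} [Fintype ι] [DecidableEq ι] [Fintype κ] [DecidableEq κ]

theorem congr_of_blocks (A : Matrix ι ι R) (B : Matrix ι κ R) (C : Matrix κ ι R) (D : Matrix κ κ R) (ε : R)
    (hε : ε * ε = 1) (A' : Matrix ι ι R) (hA : A * A' = 1) (hA' : A' * A = 1)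
    (hAt : Aᵀ = ε • A) (hC : Cᵀ = ε • B) :
    Matrix.fromBlocks A B C D = Matrix.fromBlocks 1 0 (C * A') 1 *
      Matrix.fromBlocks A 0 0 (D - C * A' * B) * (Matrix.fromBlocks 1 0 (C * A') 1)ᵀ := by
  have hA't : A'ᵀ = ε • A' := by
    have h1 : A'ᵀ * Aᵀ = 1 := by rw [← Matrix.transpose_mul, hA, Matrix.transpose_one]
    rw [hAt, Matrix.mul_smul] at h1
    calc A'ᵀ = A'ᵀ * (A * A') := by rw [hA, Matrix.mul_one]
      _ = ε • ((ε • (A'ᵀ * A)) * A') := by
        rw [Matrix.smul_mul, smul_smul, hε, one_smul, Matrix.mul_assoc]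
      _ = ε • A' := by rw [h1, Matrix.one_mul]
  have hCA : (C * A')ᵀ = A' * B := by
    rw [Matrix.transpose_mul, hA't, hC, Matrix.smul_mul, Matrix.mul_smul, smul_smul, hε, one_smul]
  rw [Matrix.fromBlocks_transpose, hCA, Matrix.fromBlocks_multiply, Matrix.fromBlocks_multiply]
  simp only [Matrix.transpose_one, Matrix.transpose_zero, Matrix.one_mul, Matrix.mul_one, Matrix.zero_mul,
    Matrix.mul_zero, add_zero, zero_add]
  rw [← Matrix.mul_assoc A A' B, hA, Matrix.one_mul, Matrix.mul_assoc C A' A, hA', Matrix.mul_one,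
    ← Matrix.mul_assoc C A' B, add_sub_cancel]

theorem isUnit_det_map {S : Type u} [CommRing S] (φ : R →+* S) {u : Matrix ι ι R} (hu : IsUnit u.det) :
    IsUnit (u.map φ).det := by
  rw [← RingHom.mapMatrix_apply, ← RingHom.map_det]; exact hu.map φ

theorem span_entries_eq_top [Nonempty ι] {u : Matrix ι ι R} (hu : IsUnit u.det) :
    Ideal.span (Set.range fun p : ι × ι => u p.1 p.2) = ⊤ := by
  obtain ⟨i⟩ := ‹Nonempty ι›
  rw [Ideal.eq_top_iff_one]
  have h := congrFun (congrFun (Matrix.mul_nonsing_inv u hu) i) i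
  rw [Matrix.one_apply_eq, Matrix.mul_apply] at h
  rw [← h]
  exact Ideal.sum_mem _ fun j _ => Ideal.mul_mem_right _ _ (Ideal.subset_span ⟨(i, j), rfl⟩)

theorem isUnit_two_map {S : Type u} [CommRing S] (φ : R →+* S) (h : IsUnit (2 : R)) : IsUnit (2 : S) := by
  have := h.map φ
  rwa [map_ofNat] at this

/-- block step: split off an invertible corner and use induction on the complement -/
theorem congr_of_corner (u : Matrix (ι ⊕ κ) (ι ⊕ κ) R) (hu : IsUnit u.det) (d₁ : Matrix ι ι ℤ) (d₂ : Matrix κ κ ℤ)
    (ε : R) (hε : ε * ε = 1) (huε : uᵀ = ε • u)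
    (hd : IsUnit (d₁.map (Int.castRingHom R)).det)
    (hA : u.toBlocks₁₁ = d₁.map (Int.castRingHom R))
    (ih : ∀ v : Matrix κ κ R, IsUnit v.det → vᵀ = ε • v → Congr v d₂) :
    Congr u (Matrix.fromBlocks d₁ 0 0 d₂) := by
  set A := u.toBlocks₁₁ with hAd
  set B := u.toBlocks₁₂
  set C := u.toBlocks₂₁
  set D := u.toBlocks₂₂
  have hAt : Aᵀ = ε • A := by
    ext i j; exact congrFun (congrFun huε (Sum.inl i)) (Sum.inl j)
  have hC : Cᵀ = ε • B := by
    ext i j; exact congrFun (congrFun huε (Sum.inl i)) (Sum.inr j)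
  have hDt : Dᵀ = ε • D := by
    ext i j; exact congrFun (congrFun huε (Sum.inr i)) (Sum.inr j)
  have hAu : IsUnit A.det := hA ▸ hd
  have heq := congr_of_blocks A B C D ε hε A⁻¹ (Matrix.mul_nonsing_inv A hAu) (Matrix.nonsing_inv_mul A hAu) hAt hC
  rw [Matrix.fromBlocks_toBlocks] at heq
  have hL : IsUnit (Matrix.fromBlocks (1 : Matrix ι ι R) 0 (C * A⁻¹) (1 : Matrix κ κ R)).det := by
    simp [Matrix.det_fromBlocks_zero₁₂]
  refine Congr.trans _ hL heq ?_
  nth_rewrite 1 [hA]
  refine Congr.blocks (ih _ ?_ ?_)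
  · have h := congrArg Matrix.det heq
    rw [Matrix.det_mul, Matrix.det_mul, Matrix.det_transpose, Matrix.det_fromBlocks_zero₁₂ A] at h
    rw [h] at hu
    exact isUnit_of_mul_isUnit_right (isUnit_of_mul_isUnit_right (isUnit_of_mul_isUnit_left hu))
  · have hB : Bᵀ = ε • C := by
      ext i j; exact congrFun (congrFun huε (Sum.inr i)) (Sum.inl j)
    have hinv : (A⁻¹)ᵀ = ε • A⁻¹ := by
      rw [Matrix.transpose_nonsing_inv, hAt]
      exact Matrix.inv_eq_left_inv (by
        rw [Matrix.smul_mul, Matrix.mul_smul, smul_smul, hε, one_smul, Matrix.nonsing_inv_mul A hAu])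
    rw [Matrix.transpose_sub, Matrix.transpose_mul, Matrix.transpose_mul, hDt, hC, hinv, hB, smul_sub]
    simp only [Matrix.smul_mul, Matrix.mul_smul, smul_smul, hε, one_smul, mul_one, one_mul, Matrix.mul_assoc]

/-- symmetric invertible matrices are étale locally congruent to the identity -/
theorem congr_one_of_symm (n : ℕ) : ∀ {R : Type u} [CommRing R], IsUnit (2 : R) →
    ∀ u : Matrix (Fin n) (Fin n) R, IsUnit u.det → uᵀ = u → Congr u 1 := by
  induction n with
  | zero => intro R _ _ u _ _; exact Congr.of_isEmpty u 1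
  | succ n ih =>
    intro R _ h2 u hu hsym
    classical
    let v : Fin (n + 1) × Fin (n + 1) → (Fin (n + 1) → R) := fun p =>
      Pi.single p.1 1 + if p.1 = p.2 then 0 else Pi.single p.2 1
    let f : Fin (n + 1) × Fin (n + 1) → R := fun p => v p ⬝ᵥ (u *ᵥ v p)
    refine Congr.of_span f ?_ fun p => ?_
    · rw [eq_top_iff, ← span_entries_eq_top hu, Ideal.span_le]
      rintro _ ⟨⟨i, j⟩, rfl⟩
      have hii : ∀ k, f (k, k) = u k k := fun k => by simp [f, v, dotProduct_mulVec]
      rcases eq_or_ne i j with rfl | hij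
      · exact Ideal.subset_span ⟨(i, i), hii i⟩
      · have hij' : f (i, j) = u i i + u j j + 2 * u i j := by
          have hs : u j i = u i j := congrFun (congrFun hsym i) j
          simp [f, v, hij, mulVec_add, dotProduct_add, add_dotProduct, hs]; ring
        obtain ⟨w, hw⟩ := h2.exists_left_inv
        have : u i j = w * (f (i, j) - f (i, i) - f (j, j)) := by
          rw [hij', hii, hii]; linear_combination (-u i j) * hw
        change u i j ∈ _
        rw [this]
        exact Ideal.mul_mem_left _ _ (Ideal.sub_mem _ (Ideal.sub_mem _ (Ideal.subset_span ⟨_, rfl⟩)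
          (Ideal.subset_span ⟨_, rfl⟩)) (Ideal.subset_span ⟨_, rfl⟩))
    · let L := Localization.Away (f p)
      have hfu : IsUnit (algebraMap R L (f p)) := IsLocalization.Away.algebraMap_isUnit (f p)
      obtain ⟨T, _, _, _, _, s, hs⟩ := exists_sqrt hfu.unit (isUnit_two_map (algebraMap R L) h2)
      refine Congr.of_cover T ?_
      rw [IsUnit.unit_spec] at hs
      have hsu : IsUnit s := isUnit_of_mul_isUnit_left (hs ▸ hfu.map (algebraMap L T))
      let φ : R →+* T := (algebraMap L T).comp (algebraMap R L)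
      rw [Matrix.map_map, show (⇑(algebraMap L T) ∘ ⇑(algebraMap R L)) = ⇑φ from rfl]
      set U := u.map φ with hUd
      obtain ⟨w, hw⟩ := hsu.exists_left_inv
      let E := Matrix.updateCol (1 : Matrix (Fin (n + 1)) (Fin (n + 1)) T) p.1 fun k => w * φ (v p k)
      have hEdet : E.det = w := by
        have h1 := Matrix.cramer_apply (1 : Matrix (Fin (n + 1)) (Fin (n + 1)) T) (fun k => w * φ (v p k)) p.1
        rw [Matrix.cramer_one] at h1
        rw [← h1]
        rcases eq_or_ne p.1 p.2 with hp | hp <;> simp [v, hp]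
      have hcorner : (Eᵀ * U * E) p.1 p.1 = 1 := by
        have h1 : (Eᵀ * U * E) p.1 p.1 = w * w * φ (f p) := by
          simp only [Matrix.mul_apply, Matrix.transpose_apply, E, Matrix.updateCol_self, hUd, Matrix.map_apply,
            f, dotProduct, Matrix.mulVec, map_sum, map_mul, Finset.mul_sum, Finset.sum_mul]
          rw [Finset.sum_comm]
          exact Finset.sum_congr rfl fun a _ => Finset.sum_congr rfl fun b _ => by ring
        rw [h1]
        change w * w * algebraMap L T (algebraMap R L (f p)) = 1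
        rw [← hs]; linear_combination (w * s + 1) * hw
      have hEu : IsUnit E.det := hEdet ▸ IsUnit.of_mul_eq_one _ hw
      refine Congr.trans (Eᵀ)⁻¹ (Matrix.isUnit_nonsing_inv_det _ (Matrix.isUnit_det_transpose _ hEu))
        (v := Eᵀ * U * E) ?_ ?_
      · rw [Matrix.transpose_nonsing_inv, Matrix.transpose_transpose, Matrix.mul_assoc Eᵀ U E,
          Matrix.nonsing_inv_mul_cancel_left _ _ (Matrix.isUnit_det_transpose _ hEu),
          Matrix.mul_nonsing_inv_cancel_right _ _ hEu]
      set V := Eᵀ * U * E with hVd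
      have hVu : IsUnit V.det := by
        rw [hVd, Matrix.det_mul, Matrix.det_mul, Matrix.det_transpose]
        exact (hEu.mul (isUnit_det_map φ hu)).mul hEu
      have hVs : Vᵀ = V := by
        rw [hVd, Matrix.transpose_mul, Matrix.transpose_mul, Matrix.transpose_transpose, hUd,
          ← Matrix.transpose_map, hsym, Matrix.mul_assoc]
      let e : Fin 1 ⊕ Fin n ≃ Fin (n + 1) :=
        (finSumFinEquiv.trans (finCongr (Nat.add_comm 1 n))).trans (Equiv.swap 0 p.1)
      have he0 : ∀ a, e (Sum.inl a) = p.1 := by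
        intro a
        have : (finSumFinEquiv.trans (finCongr (Nat.add_comm 1 n))) (Sum.inl a) = 0 := by
          ext; simp [Fin.val_eq_zero a]
        show Equiv.swap 0 p.1 _ = p.1
        rw [this, Equiv.swap_apply_left]
      have hV' : Congr (V.submatrix e e) (Matrix.fromBlocks (1 : Matrix (Fin 1) (Fin 1) ℤ) 0 0 (1 : Matrix (Fin n) (Fin n) ℤ)) := by
        refine congr_of_corner _ (by rw [Matrix.det_submatrix_equiv_self]; exact hVu) _ _ 1 (one_mul 1)
          (by rw [Matrix.transpose_submatrix, hVs, one_smul]) (by simp) ?_ fun v hv hvs => ih ?_ v hv (by rwa [one_smul] at hvs)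
        · ext a b
          simp [Matrix.toBlocks₁₁, he0, hcorner, Subsingleton.elim a b]
        · exact isUnit_two_map φ h2
      have := hV'.reindex e
      simpa [Matrix.reindex_apply, Matrix.submatrix_submatrix] using this

/-- the standard alternating form -/
def stdJ : Matrix (Fin 2) (Fin 2) ℤ := !![0, -1; 1, 0]

/-- the block alternating form -/
def stdAlt (m : ℕ) : Matrix (Fin m × Fin 2) (Fin m × Fin 2) ℤ :=
  Matrix.of fun p q => if p.1 = q.1 then stdJ p.2 q.2 else 0

/-- alternating invertible matrices are Zariski locally congruent to the standard one -/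
theorem congr_stdAlt (m : ℕ) : ∀ {R : Type u} [CommRing R], IsUnit (2 : R) →
    ∀ u : Matrix (Fin m × Fin 2) (Fin m × Fin 2) R, IsUnit u.det → uᵀ = -u → Congr u (stdAlt m) := by
  induction m with
  | zero => intro R _ _ u _ _; exact Congr.of_isEmpty u _
  | succ m ih =>
    intro R _ h2 u hu halt
    classical
    haveI : Nonempty (Fin (m + 1) × Fin 2) := ⟨(0, 0)⟩
    refine Congr.of_span (fun p : (Fin (m + 1) × Fin 2) × (Fin (m + 1) × Fin 2) => u p.1 p.2)
      (span_entries_eq_top hu) fun p => ?_
    obtain ⟨i, j⟩ := p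
    let L := Localization.Away (u i j)
    set φ : R →+* L := algebraMap R L with hφ
    have hf : IsUnit (φ (u i j)) := IsLocalization.Away.algebraMap_isUnit (u i j)
    set U := u.map φ with hUd
    have hUt : Uᵀ = -U := by rw [hUd, ← Matrix.transpose_map, halt]; ext; simp
    have hUu : IsUnit U.det := isUnit_det_map φ hu
    have hdiag : ∀ k, U k k = 0 := fun k => by
      have h1 : U k k = -U k k := by simpa using congrFun (congrFun hUt k) k
      have h3 : (2 : L) * U k k = 0 := by linear_combination h1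
      have h2L : IsUnit (2 : L) := isUnit_two_map φ h2
      exact h2L.mul_right_eq_zero.1 h3
    cases subsingleton_or_nontrivial L
    · exact ⟨L, inferInstance, inferInstance, inferInstance, inferInstance, 1, by simp,
        Subsingleton.elim _ _⟩
    have hij : i ≠ j := by
      intro hij; subst hij
      rw [show φ (u i i) = U i i from rfl, hdiag i] at hf
      exact not_isUnit_zero hf
    obtain ⟨w, hw⟩ := hf.exists_left_inv
    let e0 : Fin 2 ⊕ Fin m × Fin 2 ≃ Fin (m + 1) × Fin 2 :=
      { toFun := Sum.elim (fun a => (0, a)) (fun q => (q.1.succ, q.2))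
        invFun := fun q => Fin.cases (Sum.inl q.2) (fun k => Sum.inr (k, q.2)) q.1
        left_inv := by rintro (a | q) <;> simp
        right_inv := by
          rintro ⟨k, a⟩
          induction k using Fin.cases <;> simp }
    obtain ⟨σ, hσ0, hσ1⟩ : ∃ σ : Equiv.Perm (Fin (m + 1) × Fin 2), σ (0, 0) = i ∧ σ (0, 1) = j := by
      let σ₁ := Equiv.swap (0, 0) i
      refine ⟨(Equiv.swap (σ₁.symm j) (0, 1)).trans σ₁, ?_, ?_⟩
      · have hne : ((0, 0) : Fin (m + 1) × Fin 2) ≠ σ₁.symm j := by
          intro h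
          have h1 : σ₁ (0, 0) = j := by rw [h, Equiv.apply_symm_apply]
          exact hij ((Equiv.swap_apply_left _ _).symm.trans h1)
        rw [Equiv.trans_apply, Equiv.swap_apply_of_ne_of_ne hne (by simp)]
        exact Equiv.swap_apply_left _ _
      · rw [Equiv.trans_apply, Equiv.swap_apply_right, Equiv.apply_symm_apply]
    let e : Fin 2 ⊕ Fin m × Fin 2 ≃ Fin (m + 1) × Fin 2 := e0.trans σ
    let P : Matrix (Fin (m + 1) × Fin 2) (Fin (m + 1) × Fin 2) L :=
      (1 : Matrix _ _ L).submatrix id σ * Matrix.diagonal fun q => if q = (0, 1) then -w else 1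
    have hP : ∀ a b, (Pᵀ * U * P) a b =
        (if a = (0, 1) then -w else 1) * U (σ a) (σ b) * (if b = (0, 1) then -w else 1) := by
      intro a b
      simp only [P, Matrix.transpose_mul, Matrix.diagonal_transpose, Matrix.mul_assoc]
      rw [Matrix.diagonal_mul, ← Matrix.mul_assoc U, ← Matrix.mul_assoc, Matrix.mul_diagonal, ← mul_assoc]
      congr 2
      simp [Matrix.mul_apply, Matrix.one_apply]
    have hPu : IsUnit P.det := by
      rw [Matrix.det_mul, Matrix.det_permute', Matrix.det_one, mul_one, Matrix.det_diagonal]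
      refine IsUnit.mul ?_ (IsUnit.prod_iff.2 fun q _ => ?_)
      · exact (Units.isUnit (Equiv.Perm.sign σ)).map (Int.castRingHom L)
      · split_ifs
        · exact (IsUnit.of_mul_eq_one _ hw).neg
        · exact isUnit_one
    clear_value P
    refine Congr.trans (Pᵀ)⁻¹ (Matrix.isUnit_nonsing_inv_det _ (Matrix.isUnit_det_transpose _ hPu))
      (v := Pᵀ * U * P) ?_ ?_
    · rw [Matrix.transpose_nonsing_inv, Matrix.transpose_transpose, Matrix.mul_assoc Pᵀ U P,
        Matrix.nonsing_inv_mul_cancel_left _ _ (Matrix.isUnit_det_transpose _ hPu),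
        Matrix.mul_nonsing_inv_cancel_right _ _ hPu]
    set V := Pᵀ * U * P with hVd
    have hVu : IsUnit V.det := by
      rw [hVd, Matrix.det_mul, Matrix.det_mul, Matrix.det_transpose]
      exact (hPu.mul hUu).mul hPu
    have hVs : Vᵀ = -V := by
      rw [hVd, Matrix.transpose_mul, Matrix.transpose_mul, Matrix.transpose_transpose, hUt,
        Matrix.neg_mul, Matrix.mul_neg, Matrix.mul_assoc]
    have hV : Congr (V.submatrix e0 e0) (Matrix.fromBlocks stdJ 0 0 (stdAlt m)) := by
      refine congr_of_corner _ (by rw [Matrix.det_submatrix_equiv_self]; exact hVu) _ _ (-1) (by ring)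
        (by rw [Matrix.transpose_submatrix, hVs, neg_one_smul]; rfl)
        (by rw [Matrix.det_fin_two]; simp [stdJ]) ?_
        fun v hv hvs => ih (isUnit_two_map φ h2) v hv (by rwa [neg_one_smul] at hvs)
      have hji : U j i = -U i j := by simpa using congrFun (congrFun hUt i) j
      have hw' : U i j * w = 1 := by rw [mul_comm]; exact hw
      ext a b
      show V (e0 (Sum.inl a)) (e0 (Sum.inl b)) = _
      refine (hP _ _).trans ?_
      fin_cases a <;> fin_cases b <;>
        simp [e0, hσ0, hσ1, hdiag, stdJ, hji, hw', show w * U i j = 1 from hw]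
      all_goals first
        | exact (mul_neg (U i j) w).trans (congrArg Neg.neg hw')
        | exact (neg_mul_neg _ _).trans hw
        | linear_combination hw
    have hr := hV.reindex e0
    have hd : Matrix.reindex e0 e0 (Matrix.fromBlocks stdJ 0 0 (stdAlt m)) = stdAlt (m + 1) := by
      ext ⟨k, a⟩ ⟨l, b⟩
      induction k using Fin.cases <;> induction l using Fin.cases <;>
        simp [e0, stdAlt, Fin.succ_ne_zero, eq_comm]
    rw [hd] at hr
    simpa [Matrix.reindex_apply, Matrix.submatrix_submatrix] using hr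

end AzType29
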