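import Groth.Prelude.Def_AzInv
import Groth.Agent.Lib.AzType29.Normal
import Groth.Agent.Lib.Brauer25.SplitMap

/-!
# The sign of an involution of the first kind
-/

set_option autoImplicit false
set_option linter.style.haveILetI false

universe u v

open Matrix Groth.Agent Groth.Agent.Brauer25.SplitMap
open scoped TensorProduct
open Module (rankAtStalk)

namespace AzType29

variable {R : Type u} [CommRing R]

/-- An étale faithfully flat splitting exists. -/
theorem exists_etale_split {A : Type u} [Ring A] [Algebra R A] [IsAzumaya R A] {n : ℕ} (hrk : ∀ p : PrimeSpectrum R, rankAtStalk (R := R) A p = n ^ 2) :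
    ∃ (S : Type u) (_ : CommRing S) (_ : Algebra R S) (_ : Algebra.Etale R S) (_ : Module.FaithfullyFlat R S)
      (F : A →ₐ[R] Matrix (Fin n) (Fin n) S), IsSplitting F := by
  classical
  have h := fun p : PrimeSpectrum R => Azumaya.exists_finite_etale_split A p.asIdeal
  choose f hf R' i1 i2 i3 i4 hfin het hff r hr hφ using h
  have hspan : Ideal.span (Set.range f) = ⊤ := by
    by_contra hne
    obtain ⟨m, hm, hle⟩ := Ideal.exists_le_maximal _ hne
    exact hf ⟨m, hm.isPrime⟩ (hle (Ideal.subset_span ⟨_, rfl⟩))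
  obtain ⟨t, ht⟩ := (Ideal.eq_top_iff_one _).1 hspan |> Submodule.mem_span_finite_of_mem_span
  choose idx hidx using fun x : t => ht.1 x.2
  haveI hflat : ∀ l : t, Module.Flat R (R' (idx l)) := fun l => by
    haveI : Module.Flat (Localization.Away (f (idx l))) (R' (idx l)) := inferInstance
    haveI : Module.Flat R (Localization.Away (f (idx l))) :=
      IsLocalization.flat _ (Submonoid.powers (f (idx l)))
    exact Module.Flat.trans R (Localization.Away (f (idx l))) (R' (idx l))
  have hcomap : ∀ (l : t) (q : PrimeSpectrum R), f (idx l) ∉ q.asIdeal →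
      ∃ q' : PrimeSpectrum (R' (idx l)), PrimeSpectrum.comap (algebraMap R (R' (idx l))) q' = q := by
    intro l q hq
    have hmem : q ∈ Set.range (PrimeSpectrum.comap (algebraMap R (Localization.Away (f (idx l))))) := by
      rw [PrimeSpectrum.localization_away_comap_range (Localization.Away (f (idx l))) (f (idx l))]
      exact hq
    obtain ⟨q₁, hq₁⟩ := hmem
    obtain ⟨q', hq'⟩ := PrimeSpectrum.comap_surjective_of_faithfullyFlat
      (A := Localization.Away (f (idx l))) (B := R' (idx l)) q₁
    refine ⟨q', ?_⟩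
    rw [← hq₁, ← hq', IsScalarTower.algebraMap_eq R (Localization.Away (f (idx l))) (R' (idx l)),
      PrimeSpectrum.comap_comp_apply]
  haveI : Module.Flat R (∀ l : t, R' (idx l)) := Module.Flat.of_linearEquiv
    (DFinsupp.linearEquivFunOnFintype (R := R) (M := fun l : t => R' (idx l))).symm
  haveI : Module.FaithfullyFlat R (∀ l : t, R' (idx l)) := Module.FaithfullyFlat.of_comap_surjective fun q => by
    have hex : ∃ l : t, f (idx l) ∉ q.asIdeal := by
      by_contra hcon
      push Not at hcon
      refine q.isPrime.ne_top ((Ideal.eq_top_iff_one _).2 ?_)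
      refine (Submodule.span_le (p := q.asIdeal)).2 ?_ ht.2
      intro x hx
      have := hcon ⟨x, hx⟩
      rwa [hidx] at this
    obtain ⟨l, hl⟩ := hex
    obtain ⟨q', hq'⟩ := hcomap l q hl
    refine ⟨PrimeSpectrum.comap (Pi.evalRingHom (fun l : t => R' (idx l)) l) q', ?_⟩
    rw [← hq', ← PrimeSpectrum.comap_comp_apply]
    rfl
  have hrn : ∀ l : t, r (idx l) = n := fun l => by
    obtain ⟨q', hq'⟩ := hcomap l (idx l) (hf _)
    obtain ⟨φ⟩ := hφ (idx l)
    haveI : Nontrivial (R' (idx l)) := q'.nontrivial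
    have h1 := congrFun (Module.rankAtStalk_eq_of_equiv φ.toLinearEquiv) q'
    rw [rankAtStalk_matrix, Module.rankAtStalk_baseChange, hrk] at h1
    exact (Nat.pow_left_injective two_ne_zero h1).symm
  have hφ' : ∀ l : t, Nonempty (R' (idx l) ⊗[R] A ≃ₐ[R' (idx l)] Matrix (Fin n) (Fin n) (R' (idx l))) :=
    fun l => hrn l ▸ hφ (idx l)
  let φ := fun l => (hφ' l).some
  let Fl : ∀ l : t, A →ₐ[R] Matrix (Fin n) (Fin n) (R' (idx l)) := fun l =>
    (((φ l).toAlgHom.restrictScalars R).comp Algebra.TensorProduct.includeRight)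
  let F : A →ₐ[R] Matrix (Fin n) (Fin n) (∀ l : t, R' (idx l)) :=
    { toFun := fun a => Matrix.of fun i j l => Fl l a i j
      map_one' := by
        ext i j l
        by_cases hij : i = j <;> simp [Matrix.one_apply, hij]
      map_mul' := fun a b => by
        ext i j l
        simp [Matrix.mul_apply, Finset.sum_apply]
      map_zero' := by ext i j l; simp
      map_add' := fun a b => by ext i j l; simp
      commutes' := fun c => by
        ext i j l
        by_cases hij : i = j <;> simp [Matrix.algebraMap_matrix_apply, hij] }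
  haveI : ∀ l : t, Algebra.Etale R (R' (idx l)) := fun l =>
    Algebra.Etale.comp R (Localization.Away (f (idx l))) (R' (idx l))
  haveI : Algebra.Etale R (∀ l : t, R' (idx l)) := inferInstance
  refine ⟨(∀ l : t, R' (idx l)), inferInstance, inferInstance, inferInstance, inferInstance, F, ?_⟩
  rw [IsSplitting, eq_top_iff]
  rintro M -
  have key : ∀ (l : t) (N : Matrix (Fin n) (Fin n) (R' (idx l))),
      N ∈ Submodule.span (R' (idx l)) (Set.range (Fl l)) →
      ∀ c : R' (idx l), N.map (fun x => (Pi.single l (c * x) : (∀ l : t, R' (idx l)))) ∈ Submodule.span (∀ l : t, R' (idx l)) (Set.range F) := by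
    intro l N hN
    induction hN using Submodule.span_induction with
    | mem N hN =>
      obtain ⟨a, rfl⟩ := hN
      intro c
      rw [show (Fl l a).map (fun x => (Pi.single l (c * x) : (∀ l : t, R' (idx l)))) = (Pi.single l c : (∀ l : t, R' (idx l))) • F a from
        Matrix.ext fun i j => funext fun l' => by
          rcases eq_or_ne l' l with rfl | hne
          · simp [F]
          · simp [F, hne]]
      exact Submodule.smul_mem _ _ (Submodule.subset_span ⟨a, rfl⟩)
    | zero =>
      intro c
      rw [Matrix.map_zero _ (by simp)]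
      exact zero_mem _
    | add N N' _ _ hN hN' =>
      intro c
      rw [Matrix.map_add (fun x => (Pi.single l (c * x) : (∀ l : t, R' (idx l)))) (fun x y => by rw [mul_add, Pi.single_add])]
      exact add_mem (hN c) (hN' c)
    | smul d N _ hN =>
      intro c
      rw [show (d • N).map (fun x => (Pi.single l (c * x) : (∀ l : t, R' (idx l)))) = N.map (fun x => (Pi.single l ((c * d) * x) : (∀ l : t, R' (idx l)))) from
        Matrix.ext fun i j => by simp [mul_assoc]]
      exact hN _
  have hM : M = ∑ l : t, (M.map fun x => x l).map (fun x => (Pi.single l (1 * x) : (∀ l : t, R' (idx l)))) := by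
    refine Matrix.ext fun i j => ?_
    simp only [Matrix.sum_apply, Matrix.map_apply, one_mul]
    exact (Finset.univ_sum_single (M i j)).symm
  rw [hM]
  exact Submodule.sum_mem _ fun l _ => key l _ (by rw [isSplitting_of_algEquiv (φ l)]; trivial) 1


/-- a small copy of a finite algebra -/
theorem exists_small_copy (A : Type v) [Ring A] [Algebra R A] [Module.Finite R A] :
    ∃ (A0 : Type u) (_ : Ring A0) (_ : Algebra R A0), Nonempty (A0 ≃ₐ[R] A) := by
  obtain ⟨k, g, hg⟩ := Module.Finite.exists_fin' R A
  haveI : Small.{u} A := small_of_surjective hg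
  exact ⟨Shrink.{u} A, inferInstance, inferInstance, ⟨Shrink.algEquiv R A⟩⟩

variable {A : Type v} [Ring A] [Algebra R A] {lam : R → R}
variable {n : ℕ} {S : Type u} [CommRing S] [Algebra R S]

/-- an étale faithfully flat splitting, any universe -/
theorem exists_etale_split' (hA : AzInv.IsAzumayaDeg R A n) :
    ∃ (S : Type u) (_ : CommRing S) (_ : Algebra R S) (_ : Algebra.Etale R S) (_ : Module.FaithfullyFlat R S)
      (F : A →ₐ[R] Matrix (Fin n) (Fin n) S), IsSplitting F := by
  haveI := hA.1
  obtain ⟨A0, _, _, ⟨e⟩⟩ := exists_small_copy (R := R) A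
  haveI : IsAzumaya R A0 := IsAzumaya.of_AlgEquiv R A A0 e.symm
  obtain ⟨S, _, _, h1, h2, F, hF⟩ := exists_etale_split (A := A0) (n := n) fun p => by
    rw [Module.rankAtStalk_eq_of_equiv e.toLinearEquiv]; exact hA.2 p
  refine ⟨S, inferInstance, inferInstance, h1, h2, F.comp e.symm.toAlgHom, ?_⟩
  rw [IsSplitting, show Set.range (F.comp e.symm.toAlgHom) = Set.range F from
    e.symm.surjective.range_comp F]
  exact hF

/-- `F` carries `t` to the transpose twisted by `u` -/
structure Twist (t : AzInv.LamInv R A lam) (F : A →ₐ[R] Matrix (Fin n) (Fin n) S)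
    (u : Matrix (Fin n) (Fin n) S) (ε : S) : Prop where
  unit : IsUnit u.det
  eq : ∀ a, F (t a) * u = u * (F a)ᵀ
  symm : uᵀ = ε • u

variable {t : AzInv.LamInv R A lam} {F : A →ₐ[R] Matrix (Fin n) (Fin n) S}
  {u : Matrix (Fin n) (Fin n) S} {ε : S}

theorem Twist.push {W : Type u} [CommRing W] [Algebra R W] (h : Twist t F u ε) (j : S →ₐ[R] W) :
    Twist t (push j F) (u.map j) (j ε) where
  unit := isUnit_det_map j.toRingHom h.unit
  eq a := by
    rw [push_apply, push_apply, ← Matrix.transpose_map, ← Matrix.map_mul, ← Matrix.map_mul, h.eq]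
  symm := by
    rw [← Matrix.transpose_map, h.symm]
    ext i k; simp

theorem Twist.conj (h : Twist t F u ε) {G : A →ₐ[R] Matrix (Fin n) (Fin n) S} {g : Matrix (Fin n) (Fin n) S}
    (hg : IsUnit g.det) (hG : ∀ a, G a * g = g * F a) : Twist t G (g * u * gᵀ) ε where
  unit := by
    rw [Matrix.det_mul, Matrix.det_mul, Matrix.det_transpose]; exact (hg.mul h.unit).mul hg
  eq a := by
    have h2 : (F a)ᵀ * gᵀ = gᵀ * (G a)ᵀ := by rw [← Matrix.transpose_mul, ← Matrix.transpose_mul, hG]
    calc G (t a) * (g * u * gᵀ) = g * (F (t a) * u) * gᵀ := by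
          simp only [← Matrix.mul_assoc, hG]
      _ = g * u * gᵀ * (G a)ᵀ := by
          rw [h.eq]; simp only [Matrix.mul_assoc, h2]
  symm := by
    rw [Matrix.transpose_mul, Matrix.transpose_mul, Matrix.transpose_transpose, h.symm, Matrix.smul_mul,
      Matrix.mul_smul, Matrix.mul_assoc]

theorem eq_scalar_of_commute (hF : IsSplitting F) {z : Matrix (Fin n) (Fin n) S}
    (hz : ∀ a, z * F a = F a * z) : ∃ c : S, z = c • 1 := by
  have hall : ∀ M, z * M = M * z := fun M => by
    have hM : M ∈ Submodule.span S (Set.range F) := by rw [hF]; trivial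
    induction hM using Submodule.span_induction with
    | mem M hM => obtain ⟨a, rfl⟩ := hM; exact hz a
    | zero => simp
    | add a b _ _ ha hb => rw [Matrix.mul_add, Matrix.add_mul, ha, hb]
    | smul c a _ ha => rw [Matrix.mul_smul, Matrix.smul_mul, ha]
  obtain ⟨c, hc⟩ := Matrix.mem_range_scalar_iff_commute_single'.2 fun i k => (hall (Matrix.single i k 1)).symm
  exact ⟨c, by rw [← hc]; ext i k; simp [Matrix.one_apply, Matrix.diagonal_apply]⟩

theorem smul_right_cancel_unit (hn : 0 < n) (hu : IsUnit u.det) {a b : S} (h : a • u = b • u) : a = b := by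
  have h1 := congrArg (· * u⁻¹) h
  simp only [Matrix.smul_mul, Matrix.mul_nonsing_inv u hu] at h1
  simpa using congrFun (congrFun h1 ⟨0, hn⟩) ⟨0, hn⟩

theorem Twist.unique (hn : 0 < n) (hF : IsSplitting F) {u' : Matrix (Fin n) (Fin n) S} {ε' : S}
    (h : Twist t F u ε) (h' : Twist t F u' ε') : ε = ε' := by
  set z := u⁻¹ * u' with hz
  have hz' : ∀ a, z * (F a)ᵀ = (F a)ᵀ * z := fun a => by
    rw [hz, Matrix.mul_assoc, ← h'.eq, ← Matrix.mul_assoc, ← Matrix.mul_assoc]
    congr 1
    rw [← Matrix.nonsing_inv_mul_cancel_left u ((F a)ᵀ * u⁻¹) h.unit, ← Matrix.mul_assoc u, ← h.eq,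
      Matrix.mul_assoc (F (t a)), Matrix.mul_nonsing_inv u h.unit, Matrix.mul_one]
  obtain ⟨c, hc⟩ := eq_scalar_of_commute hF (z := zᵀ) fun a => by
    have h1 := congrArg Matrix.transpose (hz' a)
    rw [Matrix.transpose_mul z, Matrix.transpose_mul _ z, Matrix.transpose_transpose] at h1
    exact h1.symm
  have hu' : u' = c • u := by
    have h1 : z = c • 1 := by
      rw [← Matrix.transpose_transpose z, hc, Matrix.transpose_smul, Matrix.transpose_one]
    rw [← Matrix.mul_nonsing_inv_cancel_left u u' h.unit, ← hz, h1, Matrix.mul_smul, Matrix.mul_one]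
  refine (smul_right_cancel_unit hn h'.unit ?_).symm
  rw [← h'.symm, hu', Matrix.transpose_smul, h.symm, smul_smul, smul_smul, mul_comm]

/-- the sign does not depend on the splitting -/
theorem Twist.invariant [Module.Finite R A] [Module.Projective R A]
    (hrk : ∀ p : PrimeSpectrum R, rankAtStalk (R := R) A p = n ^ 2) (hn : 0 < n)
    {G : A →ₐ[R] Matrix (Fin n) (Fin n) S} {u' : Matrix (Fin n) (Fin n) S} {ε' : S}
    (hF : IsSplitting F) (hG : IsSplitting G) (h : Twist t F u ε) (h' : Twist t G u' ε') : ε = ε' := by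
  refine eq_of_localization fun m _ => ?_
  obtain ⟨U, hU⟩ := exists_conj_local hrk hF hG m
  let j : S →ₐ[R] Localization.AtPrime m := IsScalarTower.toAlgHom R S _
  have hUd : IsUnit (U : Matrix (Fin n) (Fin n) (Localization.AtPrime m)).det :=
    (Matrix.isUnit_iff_isUnit_det _).1 U.isUnit
  have hGm := (h.push j).conj (G := Brauer25.SplitMap.push j G) hUd fun a => by
    rw [push_apply, push_apply]
    show (G a).map (algebraMap S (Localization.AtPrime m)) * _ = _
    rw [hU a, Matrix.mul_assoc, Units.inv_mul, Matrix.mul_one]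
    rfl
  exact hGm.unique hn (isSplitting_push j hG) (h'.push j)

/-- automorphisms of matrix algebras are Zariski locally inner -/
theorem exists_conj_matrix {T : Type u} [CommRing T] (hn : 0 < n)
    (φ : Matrix (Fin n) (Fin n) T →ₐ[T] Matrix (Fin n) (Fin n) T) :
    Ideal.span (Set.range fun p : Fin n × Fin n => φ (Matrix.single ⟨0, hn⟩ ⟨0, hn⟩ 1) p.1 p.2) = ⊤ ∧
    ∀ (p : Fin n × Fin n) (W : Type u) [CommRing W] (j : T →+* W),
      IsUnit (j (φ (Matrix.single ⟨0, hn⟩ ⟨0, hn⟩ 1) p.1 p.2)) →
      ∃ g : Matrix (Fin n) (Fin n) W, IsUnit g.det ∧ ∀ x, (φ x).map j * g = g * x.map j := by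
  classical
  set o : Fin n := ⟨0, hn⟩
  set e := φ (Matrix.single o o 1) with he
  constructor
  · rw [Ideal.eq_top_iff_one]
    have h1 : (1 : Matrix (Fin n) (Fin n) T) = ∑ i, φ (Matrix.single i o 1) * e * φ (Matrix.single o i 1) := by
      simp only [he, ← map_mul, Matrix.single_mul_single_same, mul_one]
      rw [← map_sum, Matrix.sum_single_one, map_one]
    have h2 := congrFun (congrFun h1 o) o
    rw [Matrix.one_apply_eq, Matrix.sum_apply] at h2
    rw [h2]
    refine Ideal.sum_mem _ fun i _ => ?_
    rw [Matrix.mul_apply]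
    refine Ideal.sum_mem _ fun k _ => Ideal.mul_mem_right _ _ ?_
    rw [Matrix.mul_apply]
    exact Ideal.sum_mem _ fun l _ => Ideal.mul_mem_left _ _ (Ideal.subset_span ⟨(l, k), rfl⟩)
  · rintro ⟨l, k⟩ W _ j hu
    obtain ⟨w, hw⟩ := hu.exists_left_inv
    let ψ : Matrix (Fin n) (Fin n) T →+* Matrix (Fin n) (Fin n) W := j.mapMatrix.comp φ.toRingHom
    let g : Matrix (Fin n) (Fin n) W := Matrix.of fun r c => (ψ (Matrix.single c o 1) * ψ (Matrix.single o o 1)) r k
    let h : Matrix (Fin n) (Fin n) W := Matrix.of fun r c => w * ψ (Matrix.single o r 1) l c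
    have hhg : h * g = 1 := by
      ext r c
      calc (h * g) r c = w * (ψ (Matrix.single o r 1) * (ψ (Matrix.single c o 1) * ψ (Matrix.single o o 1))) l k := by
            simp only [Matrix.mul_apply, h, g, Matrix.of_apply, Finset.mul_sum, mul_assoc]
        _ = (1 : Matrix (Fin n) (Fin n) W) r c := by
            rw [← map_mul, Matrix.single_mul_single_same, mul_one, ← map_mul]
            rcases eq_or_ne r c with rfl | hrc
            · rw [Matrix.single_mul_single_same, mul_one, Matrix.one_apply_eq]
              exact hw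
            · rw [Matrix.single_mul_single_of_ne _ _ _ _ hrc, map_zero, Matrix.zero_apply, mul_zero,
                Matrix.one_apply_ne hrc]
    refine ⟨g, IsUnit.of_mul_eq_one h.det (by rw [mul_comm, ← Matrix.det_mul, hhg, Matrix.det_one]), ?_⟩
    intro x
    show ψ x * g = g * x.map j
    ext r c
    have hx : x * Matrix.single c o 1 = ∑ b, x b c • Matrix.single b o 1 := by
      ext p q
      simp [Matrix.mul_apply, Matrix.single_apply, Matrix.sum_apply, Finset.sum_ite_eq, eq_comm, ite_and]
    calc (ψ x * g) r c = (ψ x * (ψ (Matrix.single c o 1) * ψ (Matrix.single o o 1))) r k := by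
          simp only [Matrix.mul_apply, g, Matrix.of_apply]
      _ = (g * x.map j) r c := by
          rw [← Matrix.mul_assoc, ← map_mul, hx, map_sum, Finset.sum_mul, Matrix.sum_apply, Matrix.mul_apply]
          refine Finset.sum_congr rfl fun b _ => ?_
          have hψ : ψ (x b c • Matrix.single b o 1) = j (x b c) • ψ (Matrix.single b o 1) := by
            ext p q; simp only [ψ, RingHom.comp_apply, AlgHom.toRingHom_eq_coe, RingHom.coe_coe, map_smul,
              RingHom.mapMatrix_apply, Matrix.map_apply, Matrix.smul_apply, smul_eq_mul, map_mul]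
          rw [hψ, Matrix.smul_mul, Matrix.smul_apply, smul_eq_mul, mul_comm]
          rfl

/-- twisting data exists Zariski locally -/
theorem exists_twist_cover [Module.Finite R A] [Module.Projective R A]
    (hrk : ∀ p : PrimeSpectrum R, rankAtStalk (R := R) A p = n ^ 2) (hn : 0 < n) (hlam : ∀ r, lam r = r)
    (t : AzInv.LamInv R A lam) {F : A →ₐ[R] Matrix (Fin n) (Fin n) S} (hF : IsSplitting F)
    [Algebra.Etale R S] [Module.FaithfullyFlat R S] :
    ∃ (W : Type u) (_ : CommRing W) (_ : Algebra R W) (_ : Algebra.Etale R W) (_ : Module.FaithfullyFlat R W)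
      (G : A →ₐ[R] Matrix (Fin n) (Fin n) W) (u : Matrix (Fin n) (Fin n) W) (ε : W),
      IsSplitting G ∧ Twist t G u ε ∧ ε * ε = 1 := by
  classical
  let G0 : A →ₐ[R] Matrix (Fin n) (Fin n) S :=
    { toFun := fun a => (F (t a))ᵀ
      map_one' := by simp [AzInv.LamInv.map_one]
      map_mul' := fun a b => by simp [AzInv.LamInv.map_mul, Matrix.transpose_mul]
      map_zero' := by simp
      map_add' := fun a b => by simp
      commutes' := fun r => by
        rw [AzInv.LamInv.map_algebraMap, hlam, AlgHom.commutes]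
        simp [Matrix.algebraMap_eq_diagonal] }
  let eF := AlgEquiv.ofBijective (ext F) (ext_bijective hrk hF)
  let φ := (ext G0).comp eF.symm.toAlgHom
  have hφ : ∀ a, φ (F a) = (F (t a))ᵀ := fun a => by
    have h1 : eF ((1 : S) ⊗ₜ[R] a) = F a := by simp [eF, ext_tmul]
    show ext G0 (eF.symm (F a)) = _
    rw [← h1, AlgEquiv.symm_apply_apply, ext_tmul, one_smul]
    rfl
  obtain ⟨hspan, hloc⟩ := exists_conj_matrix hn φ
  set f : Fin n × Fin n → S := fun p => φ (Matrix.single ⟨0, hn⟩ ⟨0, hn⟩ 1) p.1 p.2
  obtain ⟨hE, hFF⟩ := pi_cover (R := S) f hspan (fun p => Localization.Away (f p))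
  let W := ∀ p, Localization.Away (f p)
  haveI : IsScalarTower R S W := inferInstance
  obtain ⟨hE', hFF'⟩ := cover_trans (R := R) S W
  let j : S →ₐ[R] W := IsScalarTower.toAlgHom R S W
  have hl : ∀ p, ∃ g : Matrix (Fin n) (Fin n) (Localization.Away (f p)), IsUnit g.det ∧
      ∀ x, (φ x).map (algebraMap S _) * g = g * x.map (algebraMap S _) := fun p =>
    hloc p _ _ (IsLocalization.Away.algebraMap_isUnit (f p))
  choose g hg hgx using hl
  let gW : Matrix (Fin n) (Fin n) W := Matrix.of fun a b p => g p a b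
  have hgW : IsUnit gW.det := by
    rw [Pi.isUnit_iff]
    intro p
    change IsUnit (Pi.evalRingHom (fun p => Localization.Away (f p)) p (Matrix.det _))
    rw [RingHom.map_det]
    exact hg p
  let G := push j F
  have hG : IsSplitting G := isSplitting_push j hF
  have key : ∀ a, ((F (t a))ᵀ).map j * gW = gW * G a := fun a => by
    ext r c p
    have h1 := congrFun (congrFun (hgx p (F a)) r) c
    rw [hφ] at h1
    simp only [Matrix.mul_apply, Matrix.map_apply] at h1 ⊢
    erw [Finset.sum_apply, Finset.sum_apply]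
    exact h1
  set u : Matrix (Fin n) (Fin n) W := (gWᵀ)⁻¹
  have hgWt := Matrix.isUnit_det_transpose _ hgW
  have heq : ∀ a, G (t a) * u = u * (G a)ᵀ := fun a => by
    have h1 := congrArg Matrix.transpose (key a)
    rw [Matrix.transpose_mul, Matrix.transpose_mul, Matrix.transpose_map, Matrix.transpose_transpose] at h1
    change gWᵀ * G (t a) = (G a)ᵀ * gWᵀ at h1
    calc G (t a) * u = u * (gWᵀ * G (t a)) * u := by
          rw [Matrix.nonsing_inv_mul_cancel_left _ _ hgWt]
      _ = u * (G a)ᵀ := by
          rw [h1, Matrix.mul_assoc u, Matrix.mul_assoc, Matrix.mul_nonsing_inv _ hgWt, Matrix.mul_one]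
  have hu : IsUnit u.det := Matrix.isUnit_nonsing_inv_det _ hgWt
  have h2 : ∀ a, uᵀ * (G (t a))ᵀ = G a * uᵀ := fun a => by
    have h1 := congrArg Matrix.transpose (heq a)
    rwa [Matrix.transpose_mul, Matrix.transpose_mul, Matrix.transpose_transpose] at h1
  obtain ⟨ε, hε⟩ := eq_scalar_of_commute hG (z := uᵀ * u⁻¹) fun a => by
    have h1 : (G (t a))ᵀ = u⁻¹ * (G a * u) := by
      have h3 := heq (t a)
      rw [t.invol] at h3
      rw [h3, Matrix.nonsing_inv_mul_cancel_left _ _ hu]
    have h4 := h2 a
    rw [h1] at h4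
    rw [← Matrix.mul_assoc (G a), ← h4, Matrix.mul_assoc uᵀ, Matrix.mul_assoc uᵀ,
      Matrix.mul_assoc (u⁻¹), Matrix.mul_assoc (G a), Matrix.mul_nonsing_inv _ hu, Matrix.mul_one]
  have hs : uᵀ = ε • u := by
    rw [← Matrix.nonsing_inv_mul_cancel_right u uᵀ hu, hε, Matrix.smul_mul, Matrix.one_mul]
  refine ⟨W, inferInstance, inferInstance, hE', hFF', G, u, ε, hG, ⟨hu, heq, hs⟩, ?_⟩
  refine smul_right_cancel_unit hn hu (b := 1) ?_
  rw [one_smul, ← smul_smul, ← hs, ← Matrix.transpose_smul, ← hs, Matrix.transpose_transpose]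

/-- the sign descends to the base -/
theorem Twist.descend [Module.Finite R A] [Module.Projective R A]
    (hrk : ∀ p : PrimeSpectrum R, rankAtStalk (R := R) A p = n ^ 2) (hn : 0 < n)
    [Module.FaithfullyFlat R S] (hF : IsSplitting F) (h : Twist t F u ε) :
    ∃ r : R, algebraMap R S r = ε :=
  mem_range_of_eq (Twist.invariant hrk hn (isSplitting_push _ hF) (isSplitting_push _ hF)
    (h.push (Algebra.TensorProduct.includeLeft : S →ₐ[R] S ⊗[R] S))
    (h.push (Algebra.TensorProduct.includeRight : S →ₐ[R] S ⊗[R] S)))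

theorem eq_one_or_neg_one [ConnectedSpace (PrimeSpectrum R)] (h2 : IsUnit (2 : R)) {r : R} (hr : r * r = 1) :
    r = 1 ∨ r = -1 := by
  obtain ⟨w, hw⟩ := h2.exists_left_inv
  have he : IsIdempotentElem (w * (1 + r)) := by
    show w * (1 + r) * (w * (1 + r)) = w * (1 + r)
    linear_combination (w * w) * hr + (w * (1 + r)) * hw
  have hcl : IsClopen (PrimeSpectrum.basicOpen (w * (1 + r)) : Set (PrimeSpectrum R)) := by
    refine ⟨?_, (PrimeSpectrum.basicOpen _).isOpen⟩
    rw [PrimeSpectrum.basicOpen_eq_zeroLocus_of_isIdempotentElem _ he]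
    exact PrimeSpectrum.isClosed_zeroLocus _
  rcases isClopen_iff.1 hcl with h | h
  · right
    have h0 : w * (1 + r) = 0 := by
      have : IsNilpotent (w * (1 + r)) := PrimeSpectrum.basicOpen_eq_bot_iff _ |>.1 (SetLike.coe_injective (by simpa using h))
      obtain ⟨k, hk⟩ := this
      rcases k with _ | k
      · rw [pow_zero] at hk; exact (subsingleton_of_zero_eq_one hk.symm).elim _ _
      · rwa [he.pow_succ_eq] at hk
    linear_combination (2 : R) * h0 - (1 + r) * hw
  · left
    have h1 : IsUnit (w * (1 + r)) := by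
      by_contra hc
      obtain ⟨m, hm, hle⟩ := Ideal.exists_le_maximal (Ideal.span {w * (1 + r)})
        (by rwa [Ne, Ideal.span_singleton_eq_top])
      have hq := Set.eq_univ_iff_forall.1 h ⟨m, hm.isPrime⟩
      exact hq (hle (Ideal.mem_span_singleton_self _))
    have h0 : w * (1 + r) = 1 := h1.mul_left_cancel (he.trans (mul_one _).symm)
    linear_combination (2 : R) * h0 - (1 + r) * hw

end AzType29
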