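import Mathlib
import Groth.Agent.Lib.Azumaya.EtaleSub

/-!
# Étale faithfully flat covers and congruence of matrices
-/

set_option autoImplicit false
set_option linter.style.haveILetI false

universe u

open Matrix

namespace AzType29

variable {R : Type u} [CommRing R]

theorem cover_trans (S T : Type u) [CommRing S] [CommRing T] [Algebra R S] [Algebra S T] [Algebra R T]
    [IsScalarTower R S T] [Algebra.Etale R S] [Module.FaithfullyFlat R S] [Algebra.Etale S T]
    [Module.FaithfullyFlat S T] : Algebra.Etale R T ∧ Module.FaithfullyFlat R T :=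
  ⟨Algebra.Etale.comp R S T, Module.FaithfullyFlat.trans R S T⟩

theorem pi_cover {ι : Type*} [Fintype ι] (f : ι → R) (hf : Ideal.span (Set.range f) = ⊤)
    (T : ι → Type u) [∀ i, CommRing (T i)] [∀ i, Algebra R (T i)] [∀ i, Algebra (Localization.Away (f i)) (T i)]
    [∀ i, IsScalarTower R (Localization.Away (f i)) (T i)]
    [∀ i, Algebra.Etale (Localization.Away (f i)) (T i)]
    [∀ i, Module.FaithfullyFlat (Localization.Away (f i)) (T i)] :
    Algebra.Etale R (∀ i, T i) ∧ Module.FaithfullyFlat R (∀ i, T i) := by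
  classical
  haveI : ∀ i, Algebra.Etale R (T i) := fun i => Algebra.Etale.comp R (Localization.Away (f i)) (T i)
  haveI : Algebra.Etale R (∀ i, T i) := inferInstance
  refine ⟨inferInstance, Module.FaithfullyFlat.of_comap_surjective fun q => ?_⟩
  obtain ⟨i, hi⟩ : ∃ i, f i ∉ q.asIdeal := by
    by_contra! hcon
    refine q.isPrime.ne_top (top_le_iff.1 (hf ▸ Ideal.span_le.2 ?_))
    rintro _ ⟨i, rfl⟩
    exact hcon i
  have hmem : q ∈ Set.range (PrimeSpectrum.comap (algebraMap R (Localization.Away (f i)))) := by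
    rw [PrimeSpectrum.localization_away_comap_range (Localization.Away (f i)) (f i)]
    exact hi
  obtain ⟨q₁, hq₁⟩ := hmem
  obtain ⟨q', hq'⟩ := PrimeSpectrum.comap_surjective_of_faithfullyFlat
    (A := Localization.Away (f i)) (B := T i) q₁
  refine ⟨PrimeSpectrum.comap (Pi.evalRingHom T i) q', ?_⟩
  rw [← hq₁, ← hq', ← PrimeSpectrum.comap_comp_apply, ← PrimeSpectrum.comap_comp_apply,
    ← IsScalarTower.algebraMap_eq]
  rfl

/-- square roots of units exist étale locally -/
theorem exists_sqrt (a : Rˣ) (h2 : IsUnit (2 : R)) :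
    ∃ (T : Type u) (_ : CommRing T) (_ : Algebra R T) (_ : Algebra.Etale R T) (_ : Module.FaithfullyFlat R T)
      (s : T), s * s = algebraMap R T a := by
  cases subsingleton_or_nontrivial R
  · exact ⟨R, inferInstance, inferInstance, inferInstance, inferInstance, 1, Subsingleton.elim _ _⟩
  set f : Polynomial R := Polynomial.X ^ 2 - Polynomial.C (a : R) with hfd
  have hf : f.Monic := Polynomial.monic_X_pow_sub_C _ two_ne_zero
  have hdeg : f.natDegree = 2 := Polynomial.natDegree_X_pow_sub_C
  have hsep : f.Separable := by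
    rw [Polynomial.separable_def']
    obtain ⟨w, hw⟩ := h2.exists_left_inv
    refine ⟨-Polynomial.C (↑a⁻¹ : R), Polynomial.C (↑a⁻¹ * w) * Polynomial.X, ?_⟩
    have h3 : Polynomial.C (↑a⁻¹ : R) * Polynomial.C (a : R) = 1 := by
      rw [← map_mul, Units.inv_mul, map_one]
    have h4 : Polynomial.C (↑a⁻¹ * w : R) * 2 = Polynomial.C (↑a⁻¹ : R) := by
      rw [← Polynomial.C_ofNat, ← map_mul, mul_assoc, hw, mul_one]
    simp only [hfd, Polynomial.derivative_sub, Polynomial.derivative_X_pow, Polynomial.derivative_C, sub_zero]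
    norm_num
    simp only [map_mul, Polynomial.C_ofNat] at h4 ⊢
    linear_combination (Polynomial.X ^ 2 : Polynomial R) * h4 + h3
  haveI := hf.free_adjoinRoot
  haveI := hf.finite_adjoinRoot
  haveI : Nontrivial (AdjoinRoot f) := Module.nontrivial_of_finrank_pos (R := R) (by
    rw [(AdjoinRoot.powerBasis' hf).finrank, AdjoinRoot.powerBasis'_dim, hdeg]; omega)
  refine ⟨AdjoinRoot f, inferInstance, inferInstance, Groth.Agent.Azumaya.etale_adjoinRoot f hf hsep,
    inferInstance, AdjoinRoot.root f, ?_⟩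
  have h := AdjoinRoot.eval₂_root f
  simp only [hfd, Polynomial.eval₂_sub, Polynomial.eval₂_X_pow, Polynomial.eval₂_C, sub_eq_zero] at h
  rw [← pow_two]; exact h

/-- étale-local congruence of a matrix with an integer matrix -/
def Congr {ι : Type} [Fintype ι] [DecidableEq ι] (u : Matrix ι ι R) (d : Matrix ι ι ℤ) : Prop :=
  ∃ (T : Type u) (_ : CommRing T) (_ : Algebra R T) (_ : Algebra.Etale R T) (_ : Module.FaithfullyFlat R T)
    (g : Matrix ι ι T), IsUnit g.det ∧ u.map (algebraMap R T) = g * d.map (Int.castRingHom T) * gᵀ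

variable {ι κ : Type} [Fintype ι] [DecidableEq ι] [Fintype κ] [DecidableEq κ]

theorem Congr.of_isEmpty [IsEmpty ι] (u : Matrix ι ι R) (d : Matrix ι ι ℤ) : Congr u d :=
  ⟨R, inferInstance, inferInstance, inferInstance, inferInstance, 1, by simp, Subsingleton.elim _ _⟩

theorem map_transpose_mul {S T : Type u} [CommRing S] [CommRing T] (φ : S →+* T) (g : Matrix ι ι S)
    (d : Matrix ι ι ℤ) : (g * d.map (Int.castRingHom S) * gᵀ).map φ =
      g.map φ * d.map (Int.castRingHom T) * (g.map φ)ᵀ := by
  rw [Matrix.map_mul, Matrix.map_mul, Matrix.transpose_map, Matrix.map_map]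
  congr 3
  funext z
  simp

theorem Congr.trans {u v : Matrix ι ι R} {d : Matrix ι ι ℤ} (h : Matrix ι ι R) (hh : IsUnit h.det)
    (huv : u = h * v * hᵀ) (hv : Congr v d) : Congr u d := by
  obtain ⟨T, _, _, _, _, g, hg, e⟩ := hv
  refine ⟨T, inferInstance, inferInstance, inferInstance, inferInstance, h.map (algebraMap R T) * g, ?_, ?_⟩
  · rw [Matrix.det_mul, ← RingHom.mapMatrix_apply, ← RingHom.map_det]
    exact (hh.map _).mul hg
  · rw [huv, Matrix.map_mul, Matrix.map_mul, e, Matrix.transpose_mul, Matrix.transpose_map]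
    simp only [Matrix.mul_assoc]

theorem Congr.of_cover {u : Matrix ι ι R} {d : Matrix ι ι ℤ} (T : Type u) [CommRing T] [Algebra R T]
    [Algebra.Etale R T] [Module.FaithfullyFlat R T] (h : Congr (u.map (algebraMap R T)) d) : Congr u d := by
  obtain ⟨W, _, _, _, _, g, hg, e⟩ := h
  letI : Algebra R W := ((algebraMap T W).comp (algebraMap R T)).toAlgebra
  haveI : IsScalarTower R T W := IsScalarTower.of_algebraMap_eq fun x => rfl
  obtain ⟨h1, h2⟩ := cover_trans (R := R) T W
  refine ⟨W, inferInstance, inferInstance, h1, h2, g, hg, ?_⟩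
  rw [← e, Matrix.map_map]
  rfl

theorem Congr.of_span {u : Matrix ι ι R} {d : Matrix ι ι ℤ} {μ : Type} [Fintype μ] (f : μ → R)
    (hf : Ideal.span (Set.range f) = ⊤)
    (h : ∀ i, Congr (u.map (algebraMap R (Localization.Away (f i)))) d) : Congr u d := by
  choose T iR iA hE hF g hg he using h
  letI : ∀ i, Algebra R (T i) := fun i =>
    ((algebraMap (Localization.Away (f i)) (T i)).comp (algebraMap R (Localization.Away (f i)))).toAlgebra
  haveI : ∀ i, IsScalarTower R (Localization.Away (f i)) (T i) := fun i =>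
    IsScalarTower.of_algebraMap_eq fun x => rfl
  obtain ⟨h1, h2⟩ := pi_cover f hf T
  refine ⟨∀ i, T i, inferInstance, inferInstance, h1, h2, Matrix.of fun a b i => g i a b, ?_, ?_⟩
  · rw [Pi.isUnit_iff]
    intro i
    change IsUnit (Pi.evalRingHom T i (Matrix.det _))
    rw [RingHom.map_det]
    exact hg i
  · ext a b i
    have := congrFun (congrFun (he i) a) b
    simp only [Matrix.map_apply, Matrix.mul_apply, Matrix.transpose_apply, Matrix.of_apply,
      Finset.sum_apply, Pi.mul_apply] at this ⊢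
    simp at this ⊢
    exact this

theorem Congr.reindex {u : Matrix ι ι R} {d : Matrix ι ι ℤ} (e : ι ≃ κ) (h : Congr u d) :
    Congr (Matrix.reindex e e u) (Matrix.reindex e e d) := by
  obtain ⟨T, _, _, _, _, g, hg, he⟩ := h
  refine ⟨T, inferInstance, inferInstance, inferInstance, inferInstance, Matrix.reindex e e g, ?_, ?_⟩
  · rw [Matrix.det_reindex_self]; exact hg
  · simp only [Matrix.reindex_apply, ← Matrix.submatrix_map, he, Matrix.transpose_submatrix,
      Matrix.submatrix_mul_equiv]

theorem Congr.blocks {v : Matrix κ κ R} {d₁ : Matrix ι ι ℤ} {d₂ : Matrix κ κ ℤ} (h : Congr v d₂) :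
    Congr (Matrix.fromBlocks (d₁.map (Int.castRingHom R)) 0 0 v) (Matrix.fromBlocks d₁ 0 0 d₂) := by
  obtain ⟨T, _, _, _, _, g, hg, he⟩ := h
  refine ⟨T, inferInstance, inferInstance, inferInstance, inferInstance, Matrix.fromBlocks 1 0 0 g, ?_, ?_⟩
  · rw [Matrix.det_fromBlocks_zero₁₂, Matrix.det_one, one_mul]; exact hg
  · rw [Matrix.fromBlocks_map, Matrix.fromBlocks_map, Matrix.fromBlocks_transpose, he,
      Matrix.fromBlocks_multiply, Matrix.fromBlocks_multiply]
    simp [Matrix.map_map, Function.comp_def]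

end AzType29
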