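import Groth.Agent.Lib.AzType29.Sign
import Groth.Agent.Lib.Azumaya.SpreadEtale
import Groth.Prelude.Def_W4c2azumayainvolQEt

/-!
# Automorphisms are inner Zariski locally on the fixed ring
-/

set_option autoImplicit false
set_option linter.style.haveILetI false

universe u v w

open Groth.Agent
open scoped TensorProduct

namespace AzType29

variable {R : Type v} [CommRing R]

/-- a twisted-central element invertible at a prime -/
theorem exists_twistCentral_at_small {A : Type v} [Ring A] [Algebra R A] [IsAzumaya R A] (ψ : A ≃ₐ[R] A)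
    (q : Ideal R) [q.IsPrime] :
    ∃ a : A, (∀ x, ψ x * a = a * x) ∧
      ∃ d, d ∉ q ∧ ∃ b c : A, a * b = algebraMap R A d ∧ c * a = algebraMap R A d := by
  classical
  let L := Localization.AtPrime q
  haveI : IsAzumaya L (L ⊗[R] A) := (Azumaya.localization_isAzumaya A q).1
  let f : A →ₗ[R] L ⊗[R] A := TensorProduct.mk R L A 1
  haveI : IsLocalizedModule q.primeCompl f :=
    (isLocalizedModule_iff_isBaseChange q.primeCompl L f).2 (TensorProduct.isBaseChange R A L)
  obtain ⟨U, hU⟩ := Azumaya.exists_unit_conj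
    (Algebra.TensorProduct.congr (AlgEquiv.refl : L ≃ₐ[L] L) ψ)
  obtain ⟨⟨a0, s⟩, hs⟩ := IsLocalizedModule.surj q.primeCompl f (U : L ⊗[R] A)
  obtain ⟨⟨b0, s'⟩, hs'⟩ := IsLocalizedModule.surj q.primeCompl f (↑U⁻¹ : L ⊗[R] A)
  replace hs : (s : R) • (U : L ⊗[R] A) = f a0 := hs
  replace hs' : (s' : R) • (↑U⁻¹ : L ⊗[R] A) = f b0 := hs'
  have hf : ∀ y z : A, f (y * z) = f y * f z := fun y z => by simp [f]
  have hker : ∀ x : A, ∃ c : q.primeCompl, (c : R) • (ψ x * a0 - a0 * x) = 0 := by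
    intro x
    obtain ⟨c, hc⟩ := (IsLocalizedModule.eq_iff_exists q.primeCompl f).1
      (show f (ψ x * a0) = f (a0 * x) by
        rw [hf, hf, ← hs, mul_smul_comm, smul_mul_assoc]
        congr 1
        have h1 := hU (f x)
        change f (ψ x) = _ at h1
        rw [h1, mul_assoc, Units.inv_mul, mul_one])
    exact ⟨c, by rw [smul_sub, sub_eq_zero]; exact hc⟩
  choose cst hcst using hker
  obtain ⟨G, hG⟩ := Module.Finite.fg_top (R := R) (M := A)
  let T : R := ∏ g ∈ G, ((cst g : q.primeCompl) : R)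
  have hT : T ∉ q := prod_mem (S := q.primeCompl) fun g _ => (cst g).2
  have hall : ∀ x, T • (ψ x * a0 - a0 * x) = 0 := by
    intro x
    have hx : x ∈ Submodule.span R (G : Set A) := by rw [hG]; trivial
    induction hx using Submodule.span_induction with
    | mem x hx =>
      rw [show T = (∏ g ∈ G.erase x, ((cst g : q.primeCompl) : R)) * (cst x : R) from
        (Finset.prod_erase_mul _ _ hx).symm, mul_smul, hcst, smul_zero]
    | zero => simp
    | add y z _ _ hy hz =>
      rw [map_add, add_mul, mul_add, add_sub_add_comm, smul_add, hy, hz, add_zero]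
    | smul r y _ hy =>
      rw [map_smul, smul_mul_assoc, mul_smul_comm, ← smul_sub, smul_comm, hy, smul_zero]
  obtain ⟨c1, hc1⟩ := (IsLocalizedModule.eq_iff_exists q.primeCompl f).1
    (show f (a0 * b0) = f (((s : R) * (s' : R)) • 1) by
      rw [hf, map_smul, ← hs, ← hs', smul_mul_smul_comm, Units.mul_inv]
      rfl)
  obtain ⟨c2, hc2⟩ := (IsLocalizedModule.eq_iff_exists q.primeCompl f).1
    (show f (b0 * a0) = f (((s : R) * (s' : R)) • 1) by
      rw [hf, map_smul, ← hs, ← hs', smul_mul_smul_comm, Units.inv_mul, mul_comm (s' : R)]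
      rfl)
  replace hc1 : (c1 : R) • (a0 * b0) = (c1 : R) • ((s : R) * (s' : R)) • (1 : A) := hc1
  replace hc2 : (c2 : R) • (b0 * a0) = (c2 : R) • ((s : R) * (s' : R)) • (1 : A) := hc2
  refine ⟨T • a0, fun x => ?_, T * (c1 * c2 * ((s : R) * (s' : R))), ?_, ((c1 : R) * c2) • b0,
    ((c1 : R) * c2) • b0, ?_, ?_⟩
  · rw [mul_smul_comm, smul_mul_assoc, ← sub_eq_zero, ← smul_sub, hall]
  · exact q.primeCompl.mul_mem hT (q.primeCompl.mul_mem (q.primeCompl.mul_mem c1.2 c2.2)
      (q.primeCompl.mul_mem s.2 s'.2))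
  · rw [smul_mul_smul_comm, mul_comm (c1 : R), ← mul_assoc, mul_smul, hc1, smul_smul, smul_smul,
      Algebra.algebraMap_eq_smul_one]
    congr 1; ring
  · rw [smul_mul_smul_comm, mul_comm, ← mul_assoc, mul_smul, hc2, smul_smul, smul_smul,
      Algebra.algebraMap_eq_smul_one]
    congr 1; ring

theorem exists_twistCentral_at {A : Type w} [Ring A] [Algebra R A] [IsAzumaya R A] (ψ : A ≃ₐ[R] A)
    (q : Ideal R) [q.IsPrime] :
    ∃ a : A, (∀ x, ψ x * a = a * x) ∧
      ∃ d, d ∉ q ∧ ∃ b c : A, a * b = algebraMap R A d ∧ c * a = algebraMap R A d := by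
  obtain ⟨A0, _, _, ⟨e⟩⟩ := exists_small_copy (R := R) A
  haveI : IsAzumaya R A0 := IsAzumaya.of_AlgEquiv R A A0 e.symm
  obtain ⟨a, ha, d, hd, b, c, hb, hc⟩ := exists_twistCentral_at_small ((e.trans ψ).trans e.symm) q
  refine ⟨e a, fun x => ?_, d, hd, e b, e c, by rw [← map_mul, hb, e.commutes], by rw [← map_mul, hc, e.commutes]⟩
  simpa using congrArg e (ha (e.symm x))

/-- surjectivity modulo a prime gives an annihilator of the cokernel outside it -/
theorem exists_annihilator {A : Type w} [AddCommGroup A] [Module R A] [Module.Finite R A] (L : A →ₗ[R] A)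
    (q : Ideal R) [q.IsPrime] (c : R) (hc : c ∉ q) (h : ∀ x, c • x ∈ LinearMap.range L ⊔ q • ⊤) :
    ∃ d, d ∉ q ∧ ∀ x, d • x ∈ LinearMap.range L := by
  let M := A ⧸ LinearMap.range L
  obtain ⟨p, hm, -, hco, hp⟩ := LinearMap.exists_monic_and_natDegree_eq_and_coeff_mem_pow_and_aeval_eq_zero
    R (M := M) (algebraMap R (Module.End R M) c) q (by
      rintro _ ⟨z, rfl⟩
      obtain ⟨x, rfl⟩ := Submodule.Quotient.mk_surjective _ z
      obtain ⟨y, hy, w, hw, hyw⟩ := Submodule.mem_sup.1 (h x)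
      show c • Submodule.Quotient.mk x ∈ q • ⊤
      rw [← Submodule.Quotient.mk_smul, ← hyw, Submodule.Quotient.mk_add,
        (Submodule.Quotient.mk_eq_zero _).2 hy, zero_add]
      have : (LinearMap.range L).mkQ w ∈ Submodule.map (LinearMap.range L).mkQ (q • ⊤) := ⟨w, hw, rfl⟩
      rw [Submodule.map_smul''] at this
      exact Submodule.smul_mono le_rfl le_top this)
  refine ⟨p.eval c, fun hd => ?_, fun x => ?_⟩
  · refine hc (‹q.IsPrime›.mem_of_pow_mem p.natDegree ?_)
    rw [Polynomial.eval_eq_sum_range, Finset.sum_range_succ, hm.coeff_natDegree, one_mul] at hd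
    refine (Ideal.add_mem_iff_right _ (Ideal.sum_mem _ fun i hi => Ideal.mul_mem_right _ _ ?_)).1 hd
    exact Ideal.pow_le_self (Nat.sub_ne_zero_of_lt (Finset.mem_range.1 hi)) (hco i)
  · rw [← Submodule.Quotient.mk_eq_zero (LinearMap.range L), Submodule.Quotient.mk_smul]
    have h1 := LinearMap.congr_fun hp (Submodule.Quotient.mk x)
    rw [Polynomial.aeval_algebraMap_apply, Polynomial.coe_aeval_eq_eval, Module.algebraMap_end_apply] at h1
    exact h1

variable {S : Type u} [CommRing S] [Algebra S R]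

theorem isIntegral_of_fixedRing (lam : R ≃ₐ[S] R) (hlam : ∀ r, lam (lam r) = r)
    (hfix : RInv.IsFixedRing S R lam.toRingEquiv) : Algebra.IsIntegral S R := by
  refine ⟨fun x => ?_⟩
  obtain ⟨s, hs⟩ := (hfix.2 (x + lam x)).1 (by
    show lam (x + lam x) = _; rw [map_add, hlam, add_comm])
  obtain ⟨p, hp⟩ := (hfix.2 (x * lam x)).1 (by
    show lam (x * lam x) = _; rw [map_mul, hlam, mul_comm])
  refine ⟨Polynomial.X ^ 2 - (Polynomial.C s * Polynomial.X - Polynomial.C p),
    Polynomial.monic_X_pow_sub (by compute_degree!), ?_⟩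
  simp only [Polynomial.eval₂_sub, Polynomial.eval₂_mul, Polynomial.eval₂_X_pow, Polynomial.eval₂_C,
    Polynomial.eval₂_X, hs, hp]
  ring

/-- for each prime of the fixed ring an element twisting `ψ`, invertible away from it -/
theorem exists_twistCentral {A : Type w} [Ring A] [Algebra S A] [Algebra R A] [IsScalarTower S R A]
    [IsAzumaya R A] (lam : R ≃ₐ[S] R) (hlam : ∀ r, lam (lam r) = r)
    (hfix : RInv.IsFixedRing S R lam.toRingEquiv) (ψ : A ≃ₐ[R] A) (p : Ideal S) [p.IsPrime] :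
    ∃ (f : S) (a b c : A), f ∉ p ∧ (∀ x, ψ x * a = a * x) ∧ a * b = algebraMap S A f ∧
      c * a = algebraMap S A f := by
  haveI := isIntegral_of_fixedRing lam hlam hfix
  haveI : FaithfulSMul S R := (faithfulSMul_iff_algebraMap_injective S R).2 hfix.1
  obtain ⟨⟨q, hq, hqp⟩⟩ := (inferInstance : Nonempty (p.primesOver R))
  let q' : Ideal R := q.comap (lam : R →ₐ[S] R)
  haveI : q'.IsPrime := inferInstanceAs (Ideal.comap _ q).IsPrime
  have hqp' : ∀ s : S, algebraMap S R s ∈ q ↔ s ∈ p := fun s => by rw [hqp.over]; rfl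
  -- the element
  obtain ⟨a, ha, h1, h2⟩ : ∃ a : A, (∀ x, ψ x * a = a * x) ∧
      (∃ d, d ∉ q ∧ ∃ b c : A, a * b = algebraMap R A d ∧ c * a = algebraMap R A d) ∧
      (∃ d, d ∉ q' ∧ ∃ b c : A, a * b = algebraMap R A d ∧ c * a = algebraMap R A d) := by
    obtain ⟨a1, ha1, d1, hd1, b1, c1, hb1, hc1⟩ := exists_twistCentral_at ψ q
    by_cases hle : q ≤ q'
    · have hqq : q' ≤ q := by
        intro r hr
        have := hle hr
        change lam (lam r) ∈ q at this
        rwa [hlam] at this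
      exact ⟨a1, ha1, ⟨d1, hd1, b1, c1, hb1, hc1⟩, d1, fun h => hd1 (hqq h), b1, c1, hb1, hc1⟩
    obtain ⟨x, hx, hx'⟩ := SetLike.not_le_iff_exists.1 hle
    have hy : lam x ∈ q' ∧ lam x ∉ q := ⟨by show lam (lam x) ∈ q; rwa [hlam], hx'⟩
    obtain ⟨a2, ha2, d2, hd2, b2, c2, hb2, hc2⟩ := exists_twistCentral_at ψ q'
    refine ⟨lam x • a1 + x • a2, fun z => ?_, ?_⟩
    · rw [mul_add, add_mul, mul_smul_comm, mul_smul_comm, ha1, ha2, smul_mul_assoc, smul_mul_assoc]
    have key : ∀ (P : Ideal R) [P.IsPrime] (e1 e2 : R) (a1 a2 : A) (d : R) (b c : A), e1 ∉ P → e2 ∈ P → d ∉ P →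
        a1 * b = algebraMap R A d → c * a1 = algebraMap R A d →
        ∃ D, D ∉ P ∧ ∃ b' c' : A, (e1 • a1 + e2 • a2) * b' = algebraMap R A D ∧
          c' * (e1 • a1 + e2 • a2) = algebraMap R A D := by
      intro P _ e1 e2 a1 a2 d b c he1 he2 hd hb hc
      set a := e1 • a1 + e2 • a2
      have hcd : e1 * d ∉ P := fun h => (‹P.IsPrime›.mem_or_mem h).elim he1 hd
      obtain ⟨D1, hD1, hr1⟩ := exists_annihilator (LinearMap.mulLeft R a) P (e1 * d) hcd fun z => by
        refine Submodule.mem_sup.2 ⟨a * (b * z), ⟨_, rfl⟩, (-e2) • (a2 * (b * z)),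
          Submodule.smul_mem_smul (P.neg_mem he2) trivial, ?_⟩
        rw [show a * (b * z) = e1 • (a1 * b * z) + e2 • (a2 * (b * z)) by
          simp only [a, add_mul, smul_mul_assoc, mul_assoc], hb, ← Algebra.smul_def, smul_smul, neg_smul]
        abel
      obtain ⟨D2, hD2, hr2⟩ := exists_annihilator (LinearMap.mulRight R a) P (e1 * d) hcd fun z => by
        refine Submodule.mem_sup.2 ⟨(z * c) * a, ⟨_, rfl⟩, (-e2) • ((z * c) * a2),
          Submodule.smul_mem_smul (P.neg_mem he2) trivial, ?_⟩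
        rw [show (z * c) * a = e1 • (z * (c * a1)) + e2 • ((z * c) * a2) by
          simp only [a, mul_add, mul_smul_comm, mul_assoc], hc, ← Algebra.commutes, ← Algebra.smul_def,
          smul_smul, neg_smul]
        abel
      obtain ⟨b', hb'⟩ := hr1 1
      obtain ⟨c', hc'⟩ := hr2 1
      change a * b' = _ at hb'
      change c' * a = _ at hc'
      refine ⟨D1 * D2, fun h => (‹P.IsPrime›.mem_or_mem h).elim hD1 hD2, D2 • b', D1 • c', ?_, ?_⟩
      · rw [mul_smul_comm, hb', smul_smul, mul_comm D2, Algebra.algebraMap_eq_smul_one]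
      · rw [smul_mul_assoc, hc', smul_smul, Algebra.algebraMap_eq_smul_one]
    refine ⟨key q (lam x) x a1 a2 d1 b1 c1 hy.2 hx hd1 hb1 hc1, ?_⟩
    rw [add_comm]
    exact key q' x (lam x) a2 a1 d2 b2 c2 hx' hy.1 hd2 hb2 hc2
  -- avoid both primes
  obtain ⟨d1, hd1, b1, c1, hb1, hc1⟩ := h1
  obtain ⟨d2, hd2, b2, c2, hb2, hc2⟩ := h2
  let I : Ideal R := Ideal.span {d1, d2}
  have hI : ¬ ((I : Set R) ⊆ (q : Set R) ∪ (q' : Set R)) := by
    rw [Ideal.subset_union]
    rintro (h | h)
    · exact hd1 (h (Ideal.subset_span (by simp)))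
    · exact hd2 (h (Ideal.subset_span (by simp)))
  obtain ⟨d, hdI, hd⟩ := Set.not_subset.1 hI
  simp only [Set.mem_union, SetLike.mem_coe, not_or] at hd
  obtain ⟨α, β, rfl⟩ := Ideal.mem_span_pair.1 hdI
  obtain ⟨f, hf⟩ := (hfix.2 ((α * d1 + β * d2) * lam (α * d1 + β * d2))).1 (by
    show lam _ = _; rw [map_mul, hlam, mul_comm])
  refine ⟨f, a, lam (α * d1 + β * d2) • (α • b1 + β • b2), lam (α * d1 + β * d2) • (α • c1 + β • c2), ?_, ha, ?_, ?_⟩
  · intro hfp
    have := (hqp' f).2 hfp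
    rw [hf] at this
    exact (hq.mem_or_mem this).elim hd.1 hd.2
  · rw [mul_smul_comm, mul_add, mul_smul_comm, mul_smul_comm, hb1, hb2, IsScalarTower.algebraMap_apply S R A, hf]
    simp only [Algebra.algebraMap_eq_smul_one, smul_add, smul_smul, ← add_smul]
    congr 1; ring
  · rw [smul_mul_assoc, add_mul, smul_mul_assoc, smul_mul_assoc, hc1, hc2, IsScalarTower.algebraMap_apply S R A, hf]
    simp only [Algebra.algebraMap_eq_smul_one, smul_add, smul_smul, ← add_smul]
    congr 1; ring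

theorem single_mul_single_ne {ι : Type*} [DecidableEq ι] {T : ι → Type*} [∀ i, CommRing (T i)] {l k : ι}
    (h : l ≠ k) (a : T l) (b : T k) : (Pi.single l a * Pi.single k b : ∀ i, T i) = 0 := by
  funext j
  rcases eq_or_ne j l with rfl | hj
  · simp [h]
  · simp [hj]

theorem single_mul_single_eq {ι : Type*} [DecidableEq ι] {T : ι → Type*} [∀ i, CommRing (T i)] (l : ι)
    (a b : T l) : (Pi.single l a * Pi.single l b : ∀ i, T i) = Pi.single l (a * b) := by
  funext j
  rcases eq_or_ne j l with rfl | hj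
  · simp
  · simp [hj]

theorem smul_single {K : Type*} [CommRing K] {ι : Type*} [DecidableEq ι] {T : ι → Type*} [∀ i, CommRing (T i)]
    [∀ i, Algebra K (T i)] (r : K) (l : ι) (a : T l) :
    (r • (Pi.single l a : ∀ i, T i)) = Pi.single l (algebraMap K (T l) r * a) := by
  funext j
  rcases eq_or_ne j l with rfl | hj
  · simp [Algebra.smul_def]
  · simp [hj]

/-- automorphisms are inner after a Zariski cover of the fixed ring -/
theorem exists_inner_cover {A : Type w} [Ring A] [Algebra S A] [Algebra R A] [IsScalarTower S R A]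
    [IsAzumaya R A] (lam : R ≃ₐ[S] R) (hlam : ∀ r, lam (lam r) = r)
    (hfix : RInv.IsFixedRing S R lam.toRingEquiv) (ψ : A ≃ₐ[R] A) :
    ∃ (S' : Type u) (_ : CommRing S') (_ : Algebra S S') (_ : Algebra.Etale S S')
      (_ : Module.FaithfullyFlat S S') (u : (S' ⊗[S] A)ˣ),
      ∀ x : S' ⊗[S] A,
        Algebra.TensorProduct.congr (AlgEquiv.refl : S' ≃ₐ[S'] S') (ψ.restrictScalars S) x =
          ↑u * x * ↑u⁻¹ := by
  classical
  have h := fun p : PrimeSpectrum S => exists_twistCentral lam hlam hfix ψ p.asIdeal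
  choose f a b c hf ha hb hc using h
  have hspan : Ideal.span (Set.range f) = ⊤ := by
    by_contra hne
    obtain ⟨m, hm, hle⟩ := Ideal.exists_le_maximal _ hne
    exact hf ⟨m, hm.isPrime⟩ (hle (Ideal.subset_span ⟨_, rfl⟩))
  obtain ⟨t, ht⟩ := (Ideal.eq_top_iff_one _).1 hspan |> Submodule.mem_span_finite_of_mem_span
  choose idx hidx using fun x : t => ht.1 x.2
  have hspan' : Ideal.span (Set.range fun l : t => f (idx l)) = ⊤ := by
    rw [Ideal.eq_top_iff_one]
    refine Ideal.span_mono ?_ ht.2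
    intro x hx
    exact ⟨⟨x, hx⟩, hidx ⟨x, hx⟩⟩
  obtain ⟨hE, hFF⟩ := pi_cover (R := S) (fun l : t => f (idx l)) hspan' (fun l => Localization.Away (f (idx l)))
  let S' := ∀ l : t, Localization.Away (f (idx l))
  choose i hi using fun l : t => (IsLocalization.Away.algebraMap_isUnit (S := Localization.Away (f (idx l))) (f (idx l))).exists_left_inv
  let e : t → S' := fun l => Pi.single l 1
  let einv : t → S' := fun l => Pi.single l (i l)
  let U : S' ⊗[S] A := ∑ l, e l ⊗ₜ a (idx l)
  let Vr : S' ⊗[S] A := ∑ l, einv l ⊗ₜ b (idx l)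
  let Vl : S' ⊗[S] A := ∑ l, einv l ⊗ₜ c (idx l)
  have hone : ∀ (l : t), (einv l ⊗ₜ[S] algebraMap S A (f (idx l)) : S' ⊗[S] A) = e l ⊗ₜ 1 := fun l => by
    rw [Algebra.algebraMap_eq_smul_one, ← TensorProduct.smul_tmul]
    congr 1
    refine (smul_single (T := fun l : t => Localization.Away (f (idx l))) (f (idx l)) l (i l)).trans ?_
    exact congrArg (Pi.single (M := fun l : t => Localization.Away (f (idx l))) l) ((mul_comm _ _).trans (hi l))
  have hsum : ∑ l, (e l ⊗ₜ[S] (1 : A)) = (1 : S' ⊗[S] A) := by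
    rw [← TensorProduct.sum_tmul]
    congr 1
    exact Finset.univ_sum_single (fun _ => (1 : _))
  have hmul : ∀ (x y : t → A) (g g' : t → S') , (∀ l k, l ≠ k → g l * g' k = 0) →
      (∑ l, g l ⊗ₜ[S] x l) * (∑ l, g' l ⊗ₜ[S] y l) = ∑ l, (g l * g' l) ⊗ₜ[S] (x l * y l) := by
    intro x y g g' hgg
    rw [Finset.sum_mul_sum]
    refine Finset.sum_congr rfl fun l _ => ?_
    rw [Finset.sum_eq_single l]
    · rw [Algebra.TensorProduct.tmul_mul_tmul]
    · intro k _ hk
      rw [Algebra.TensorProduct.tmul_mul_tmul, hgg l k (Ne.symm hk), TensorProduct.zero_tmul]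
    · simp
  have horth : ∀ l k : t, l ≠ k → e l * einv k = 0 := fun l k hlk =>
    single_mul_single_ne (T := fun l : t => Localization.Away (f (idx l))) hlk _ _
  have hee : ∀ l, e l * einv l = einv l := fun l =>
    (single_mul_single_eq (T := fun l : t => Localization.Away (f (idx l))) l _ _).trans
      (congrArg (Pi.single l) (one_mul _))
  have h1 : U * Vr = 1 := by
    rw [hmul _ _ _ _ horth, ← hsum]
    refine Finset.sum_congr rfl fun l _ => ?_
    rw [hee, hb, hone]
  have h2 : Vl * U = 1 := by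
    rw [hmul _ _ _ _ fun l k hlk => (mul_comm _ _).trans (horth k l (Ne.symm hlk)), ← hsum]
    refine Finset.sum_congr rfl fun l _ => ?_
    rw [mul_comm (einv l), hee, hc, hone]
  refine ⟨S', inferInstance, inferInstance, hE, hFF,
    ⟨U, Vr, h1, by rw [← left_inv_eq_right_inv h2 h1]; exact h2⟩, fun x => ?_⟩
  change _ = U * x * Vr
  suffices hc' : Algebra.TensorProduct.congr (AlgEquiv.refl : S' ≃ₐ[S'] S') (ψ.restrictScalars S) x * U = U * x by
    rw [← hc', mul_assoc, h1, mul_one]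
  induction x using TensorProduct.induction_on with
  | zero => simp
  | add x y hx hy => rw [map_add, add_mul, mul_add, hx, hy]
  | tmul s z =>
    rw [Algebra.TensorProduct.congr_apply, Algebra.TensorProduct.map_tmul]
    simp only [U, Finset.mul_sum, Finset.sum_mul, Algebra.TensorProduct.tmul_mul_tmul]
    refine Finset.sum_congr rfl fun l _ => ?_
    rw [mul_comm]
    exact congrArg _ (ha (idx l) z)

end AzType29
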