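import Groth.Agent.Lib.AzType29.Sign

/-!
# Types of involutions of the first kind
-/

set_option autoImplicit false
set_option linter.style.haveILetI false

universe u v w

open Matrix Groth.Agent Groth.Agent.Brauer25.SplitMap
open scoped TensorProduct
open Module (rankAtStalk)

namespace AzType29

variable {R : Type u} [CommRing R] {lam : R ≃ₐ[R] R}

theorem ext_bc {B : Type v} [Ring B] [Algebra R B] {n : ℕ} {S : Type u} [CommRing S] [Algebra R S]
    {t : AzInv.LamInv R B lam} {F : B →ₐ[R] Matrix (Fin n) (Fin n) S} {D : Matrix (Fin n) (Fin n) S} {ε : S}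
    (h : Twist t F D ε) (x : S ⊗[R] B) : ext F (t.bc R lam S x) * D = D * (ext F x)ᵀ := by
  induction x using TensorProduct.induction_on with
  | zero => simp
  | add x y hx hy => simp [map_add, add_mul, mul_add, Matrix.transpose_add, hx, hy]
  | tmul s a =>
    rw [AzInv.LamInv.bc_tmul, ext_tmul, ext_tmul, Matrix.smul_mul, h.eq, Matrix.transpose_smul, Matrix.mul_smul]

/-- a common twisted splitting gives a local isomorphism -/
theorem locIsoEt_of_twist {B : Type v} [Ring B] [Algebra R B] [Module.Finite R B] [Module.Projective R B]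
    {B' : Type w} [Ring B'] [Algebra R B'] [Module.Finite R B'] [Module.Projective R B'] {n : ℕ}
    (hrk : ∀ p : PrimeSpectrum R, rankAtStalk (R := R) B p = n ^ 2)
    (hrk' : ∀ p : PrimeSpectrum R, rankAtStalk (R := R) B' p = n ^ 2)
    {S : Type u} [CommRing S] [Algebra R S] [Algebra.Etale R S] [Module.FaithfullyFlat R S]
    {t : AzInv.LamInv R B lam} {t' : AzInv.LamInv R B' lam}
    {F : B →ₐ[R] Matrix (Fin n) (Fin n) S} {F' : B' →ₐ[R] Matrix (Fin n) (Fin n) S}
    (hF : IsSplitting F) (hF' : IsSplitting F') {D : Matrix (Fin n) (Fin n) S} {ε : S}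
    (h : Twist t F D ε) (h' : Twist t' F' D ε) : AzInv.LocIsoEt R lam t t' := by
  let eF := AlgEquiv.ofBijective (ext F) (ext_bijective hrk hF)
  let eF' := AlgEquiv.ofBijective (ext F') (ext_bijective hrk' hF')
  refine ⟨S, inferInstance, inferInstance, inferInstance, inferInstance, eF.trans eF'.symm, ?_, ?_⟩
  · intro r x
    have h1 : ((1 : S) ⊗ₜ[R] algebraMap R B r) = algebraMap S (S ⊗[R] B) (algebraMap R S r) := by
      rw [Algebra.TensorProduct.algebraMap_apply, Algebra.algebraMap_self_apply,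
        Algebra.algebraMap_eq_smul_one r, ← TensorProduct.smul_tmul, ← Algebra.algebraMap_eq_smul_one]
    have h2 : ((1 : S) ⊗ₜ[R] algebraMap R B' r) = algebraMap S (S ⊗[R] B') (algebraMap R S r) := by
      rw [Algebra.TensorProduct.algebraMap_apply, Algebra.algebraMap_self_apply,
        Algebra.algebraMap_eq_smul_one r, ← TensorProduct.smul_tmul, ← Algebra.algebraMap_eq_smul_one]
    rw [map_mul, h1, h2, AlgEquiv.commutes]
  · intro x
    apply eF'.injective
    rw [AlgEquiv.trans_apply, AlgEquiv.apply_symm_apply, AlgEquiv.trans_apply]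
    apply ((Matrix.isUnit_iff_isUnit_det _).2 h.unit).mul_right_cancel
    show ext F (t.bc R lam S x) * D = ext F' (t'.bc R lam S (eF'.symm (eF x))) * D
    rw [ext_bc h, ext_bc h', show ext F' (eF'.symm (eF x)) = eF x from eF'.apply_symm_apply _]
    rfl

variable {n : ℕ}

theorem isSplitting_comp_equiv {B : Type v} [Ring B] [Algebra R B] {B' : Type w} [Ring B'] [Algebra R B']
    {S : Type u} [CommRing S] [Algebra R S] {F : B →ₐ[R] Matrix (Fin n) (Fin n) S} (hF : IsSplitting F)
    (e : B' ≃ₐ[R] B) : IsSplitting (F.comp e.toAlgHom) := by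
  rw [IsSplitting, show Set.range (F.comp e.toAlgHom) = Set.range F from e.surjective.range_comp F]
  exact hF

/-- the canonical splitting of a matrix algebra over the base -/
noncomputable def stdHom (n : ℕ) (S : Type u) [CommRing S] [Algebra R S] :
    Matrix (Fin n) (Fin n) R →ₐ[R] Matrix (Fin n) (Fin n) S :=
  (Algebra.ofId R S).mapMatrix

theorem isSplitting_stdHom (S : Type u) [CommRing S] [Algebra R S] : IsSplitting (stdHom (R := R) n S) := by
  classical
  rw [IsSplitting, eq_top_iff]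
  rintro M -
  rw [Matrix.matrix_eq_sum_single M]
  refine Submodule.sum_mem _ fun i _ => Submodule.sum_mem _ fun l _ => ?_
  rw [show Matrix.single i l (M i l) = M i l • (stdHom n S (Matrix.single i l (1 : R))) by
    ext p q; simp [stdHom, Matrix.single_apply, Algebra.ofId_apply, mul_ite, apply_ite (algebraMap R S)]]
  exact Submodule.smul_mem _ _ (Submodule.subset_span ⟨_, rfl⟩)

theorem rank_matrix_self [Nontrivial R] (p : PrimeSpectrum R) :
    rankAtStalk (R := R) (Matrix (Fin n) (Fin n) R) p = n ^ 2 := rankAtStalk_matrix p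

theorem twist_stdHom (hlam : ∀ r, lam r = r) (hl : ∀ r, lam (lam r) = r) (S : Type u) [CommRing S] [Algebra R S] :
    Twist ((AzInv.LamInv.self lam hl).matrix (Fin n)) (stdHom n S) (1 : Matrix (Fin n) (Fin n) S) 1 where
  unit := by simp
  eq M := by
    rw [Matrix.one_mul, Matrix.mul_one]
    ext i j
    simp [stdHom, hlam]
  symm := by simp

/-- conjugate a splitting -/
noncomputable def conjHom {B : Type v} [Ring B] [Algebra R B] {S : Type u} [CommRing S] [Algebra R S]
    (F : B →ₐ[R] Matrix (Fin n) (Fin n) S) (g : Matrix (Fin n) (Fin n) S) (hg : IsUnit g.det) :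
    B →ₐ[R] Matrix (Fin n) (Fin n) S where
  toFun a := g * F a * g⁻¹
  map_one' := by rw [map_one, Matrix.mul_one, Matrix.mul_nonsing_inv g hg]
  map_mul' a b := by
    simp only [map_mul, Matrix.mul_assoc]
    rw [Matrix.nonsing_inv_mul_cancel_left g _ hg]
  map_zero' := by simp
  map_add' a b := by simp [Matrix.mul_add, Matrix.add_mul]
  commutes' r := by
    rw [AlgHom.commutes, ← Algebra.commutes r g, Matrix.mul_assoc, Matrix.mul_nonsing_inv g hg, Matrix.mul_one]

theorem conjHom_mul {B : Type v} [Ring B] [Algebra R B] {S : Type u} [CommRing S] [Algebra R S]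
    (F : B →ₐ[R] Matrix (Fin n) (Fin n) S) (g : Matrix (Fin n) (Fin n) S) (hg : IsUnit g.det) (a : B) :
    conjHom F g hg a * g = g * F a :=
  Matrix.nonsing_inv_mul_cancel_right g _ hg

theorem isSplitting_conjHom {B : Type v} [Ring B] [Algebra R B] {S : Type u} [CommRing S] [Algebra R S]
    {F : B →ₐ[R] Matrix (Fin n) (Fin n) S} (hF : IsSplitting F) (g : Matrix (Fin n) (Fin n) S) (hg : IsUnit g.det) :
    IsSplitting (conjHom F g hg) := by
  let c : Matrix (Fin n) (Fin n) S →ₗ[S] Matrix (Fin n) (Fin n) S :=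
    (LinearMap.mulRight S g⁻¹).comp (LinearMap.mulLeft S g)
  rw [IsSplitting, show Set.range (conjHom F g hg) = c '' Set.range F from Set.range_comp c F,
    Submodule.span_image, hF, Submodule.map_top, LinearMap.range_eq_top]
  intro M
  refine ⟨g⁻¹ * M * g, ?_⟩
  show g * (g⁻¹ * M * g) * g⁻¹ = M
  rw [Matrix.mul_assoc g⁻¹, Matrix.mul_nonsing_inv_cancel_left g _ hg, Matrix.mul_nonsing_inv_cancel_right g _ hg]

/-- `M_m(M_2 R) ≅ M_n R` -/
noncomputable def blockEquiv (m : ℕ) (e : Fin m × Fin 2 ≃ Fin n) :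
    Matrix (Fin m) (Fin m) (Matrix (Fin 2) (Fin 2) R) ≃ₐ[R] Matrix (Fin n) (Fin n) R :=
  (Matrix.compAlgEquiv (Fin m) (Fin 2) R R).trans (Matrix.reindexAlgEquiv R R e)

theorem rank_block [Nontrivial R] (m : ℕ) (e : Fin m × Fin 2 ≃ Fin n) (p : PrimeSpectrum R) :
    rankAtStalk (R := R) (Matrix (Fin m) (Fin m) (Matrix (Fin 2) (Fin 2) R)) p = n ^ 2 := by
  rw [Module.rankAtStalk_eq_of_equiv (blockEquiv m e).toLinearEquiv, rank_matrix_self]

theorem twist_block (hlam : ∀ r, lam r = r) (hl : ∀ r, lam (lam r) = r) (m : ℕ) (e : Fin m × Fin 2 ≃ Fin n)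
    (J : (Matrix (Fin 2) (Fin 2) R)ˣ) (hJ : (↑J : Matrix (Fin 2) (Fin 2) R) = Matrix.of ![![0, -1], ![1, 0]])
    (hJt : AzInv.LamInv.transpose lam (Fin 2) hl (↑J : Matrix (Fin 2) (Fin 2) R) = (-1 : R) • (↑J : Matrix (Fin 2) (Fin 2) R))
    (hneg : lam (-1) * (-1) = 1) (S : Type u) [CommRing S] [Algebra R S] :
    Twist (((AzInv.LamInv.transpose lam (Fin 2) hl).conj J (-1) hJt hneg).matrix (Fin m))
      ((stdHom n S).comp (blockEquiv m e).toAlgHom)
      ((Matrix.reindex e e (stdAlt m)).map (Int.castRingHom S)) (-1) := by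
  classical
  set D : Matrix (Fin m) (Fin m) (Matrix (Fin 2) (Fin 2) R) := Matrix.diagonal fun _ => (↑J : Matrix (Fin 2) (Fin 2) R)
  set E := (stdHom n S).comp (blockEquiv (R := R) m e).toAlgHom
  have hD : E D = (Matrix.reindex e e (stdAlt m)).map (Int.castRingHom S) := by
    ext i j
    obtain ⟨⟨a, b⟩, rfl⟩ := e.surjective i
    obtain ⟨⟨c, d⟩, rfl⟩ := e.surjective j
    simp only [E, D, Equiv.symm_apply_apply, AlgHom.comp_apply, stdHom, blockEquiv, AlgEquiv.toAlgHom_eq_coe, AlgHom.coe_coe,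
      AlgEquiv.trans_apply, Matrix.compAlgEquiv_apply, Matrix.coe_reindexAlgEquiv, AlgHom.mapMatrix_apply,
      Matrix.map_apply, Matrix.reindex_apply, Matrix.submatrix_apply, Matrix.comp_apply, stdAlt, Matrix.of_apply,
      Algebra.ofId_apply]
    by_cases hac : a = c
    · subst hac
      simp only [Matrix.diagonal_apply_eq, hJ, if_true]
      fin_cases b <;> fin_cases d <;> simp [stdJ]
    · simp [Matrix.diagonal_apply_ne _ hac, hac]
  have hT : ∀ M, E (((AzInv.LamInv.transpose lam (Fin 2) hl).matrix (Fin m)) M) = (E M)ᵀ := by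
    intro M
    ext i j
    simp [E, stdHom, blockEquiv, hlam]
  have hDu : IsUnit D := by
    refine ⟨⟨D, Matrix.diagonal fun _ => (↑J⁻¹ : Matrix (Fin 2) (Fin 2) R), ?_, ?_⟩, rfl⟩ <;>
      simp [D, Matrix.diagonal_mul_diagonal, Matrix.diagonal_one]
  refine ⟨?_, fun M => ?_, ?_⟩
  · rw [← hD, ← Matrix.isUnit_iff_isUnit_det]
    exact hDu.map E
  · rw [← hD, ← hT, ← map_mul, ← map_mul]
    refine congrArg E ?_
    ext i j : 2
    simp [D, Matrix.mul_diagonal, Matrix.diagonal_mul, mul_assoc]
  · ext i j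
    simp only [Matrix.transpose_apply, Matrix.map_apply, Matrix.smul_apply, Matrix.reindex_apply,
      Matrix.submatrix_apply, stdAlt, Matrix.of_apply, smul_eq_mul]
    rcases e.symm i with ⟨a, b⟩
    rcases e.symm j with ⟨c, d⟩
    by_cases hac : a = c
    · subst hac
      fin_cases b <;> fin_cases d <;> simp [stdJ]
    · simp [hac, Ne.symm hac]

variable [Nontrivial R] in
/-- over a connected base with `2` invertible there are two types -/
theorem sameType_dichotomy [ConnectedSpace (PrimeSpectrum R)] (h2 : IsUnit (2 : R)) (hlam : ∀ r, lam r = r)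
    (hl : ∀ r, lam (lam r) = r) (J : (Matrix (Fin 2) (Fin 2) R)ˣ)
    (hJ : (↑J : Matrix (Fin 2) (Fin 2) R) = Matrix.of ![![0, -1], ![1, 0]])
    (hJt : AzInv.LamInv.transpose lam (Fin 2) hl (↑J : Matrix (Fin 2) (Fin 2) R) = (-1 : R) • (↑J : Matrix (Fin 2) (Fin 2) R))
    (hneg : lam (-1) * (-1) = 1) (A : Type v) [Ring A] [Algebra R A]
    (n : ℕ) (hn : 0 < n) (hA : AzInv.IsAzumayaDeg R A n) (t : AzInv.LamInv R A lam) :
    AzInv.SameType R lam t (AzInv.LamInv.self lam hl) ∨
      AzInv.SameType R lam t ((AzInv.LamInv.transpose lam (Fin 2) hl).conj J (-1) hJt hneg) := by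
  classical
  haveI := hA.1
  obtain ⟨S, _, _, _, _, F, hF⟩ := exists_etale_split' (A := A) hA
  obtain ⟨W, _, _, hE, hFF, G, u, ε, hG, hu, hε⟩ := exists_twist_cover hA.2 hn hlam t hF
  obtain ⟨r, rfl⟩ := hu.descend hA.2 hn hG
  have hr : r * r = 1 := algebraMap_injective_of_faithfullyFlat (R := R) (S := W) (by rw [map_mul, map_one, hε])
  have h2W : IsUnit (2 : W) := isUnit_two_map (algebraMap R W) h2
  haveI : Nontrivial W := (algebraMap_injective_of_faithfullyFlat (R := R) (S := W)).nontrivial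
  let e1 : Matrix (Fin 1) (Fin 1) A ≃ₐ[R] A :=
    { toFun := fun M => M 0 0
      invFun := fun a => Matrix.of fun _ _ => a
      left_inv := fun M => by ext i j; fin_cases i; fin_cases j; rfl
      right_inv := fun a => rfl
      map_mul' := fun M N => by simp [Matrix.mul_apply]
      map_add' := fun M N => rfl
      commutes' := fun r => by simp [Matrix.algebraMap_matrix_apply] }
  haveI : Module.Finite R (Matrix (Fin 1) (Fin 1) A) := Module.Finite.equiv e1.symm.toLinearEquiv
  haveI : Module.Projective R (Matrix (Fin 1) (Fin 1) A) := Module.Projective.of_equiv e1.symm.toLinearEquiv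
  have hrk1 : ∀ p : PrimeSpectrum R, rankAtStalk (R := R) (Matrix (Fin 1) (Fin 1) A) p = n ^ 2 := fun p => by
    rw [Module.rankAtStalk_eq_of_equiv e1.toLinearEquiv]; exact hA.2 p
  -- transport a twisted splitting of `A` to `M₁(A)`
  have up : ∀ {T : Type u} [CommRing T] [Algebra R T] {H : A →ₐ[R] Matrix (Fin n) (Fin n) T} {D : Matrix (Fin n) (Fin n) T} {δ : T},
      Twist t H D δ → Twist (t.matrix (Fin 1)) (H.comp e1.toAlgHom) D δ := fun {T} _ _ {H D δ} h =>
    ⟨h.unit, fun a => h.eq (e1 a), h.symm⟩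
  rcases eq_one_or_neg_one h2 hr with rfl | rfl
  · left
    have hsym : uᵀ = u := by rw [hu.symm, map_one, one_smul]
    obtain ⟨T, _, _, _, _, g, hg, he⟩ := congr_one_of_symm n h2W u hu.unit hsym
    letI : Algebra R T := ((algebraMap W T).comp (algebraMap R W)).toAlgebra
    haveI : IsScalarTower R W T := IsScalarTower.of_algebraMap_eq fun x => rfl
    obtain ⟨h1, h1'⟩ := cover_trans (R := R) W T
    let j : W →ₐ[R] T := IsScalarTower.toAlgHom R W T
    have hgi : IsUnit (g⁻¹).det := Matrix.isUnit_nonsing_inv_det g hg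
    have hH := (hu.push j).conj (G := conjHom (push j G) g⁻¹ hgi) hgi (conjHom_mul _ _ _)
    have hone : g⁻¹ * u.map j * (g⁻¹)ᵀ = 1 := by
      rw [show u.map j = u.map (algebraMap W T) from rfl, he, Matrix.transpose_nonsing_inv,
        Matrix.map_one _ (map_zero _) (map_one _), Matrix.mul_one, Matrix.nonsing_inv_mul_cancel_left _ _ hg,
        Matrix.mul_nonsing_inv _ (Matrix.isUnit_det_transpose _ hg)]
    rw [hone, show j (algebraMap R W 1) = 1 by simp] at hH
    exact ⟨1, n, one_pos, hn, locIsoEt_of_twist hrk1 rank_matrix_self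
      (isSplitting_comp_equiv (isSplitting_conjHom (isSplitting_push j hG) _ hgi) e1)
      (isSplitting_stdHom T) (up hH) (twist_stdHom hlam hl T)⟩
  · right
    have halt : uᵀ = -u := by rw [hu.symm, map_neg, map_one, neg_one_smul]
    obtain ⟨m, hm⟩ : Even n := by
      by_contra hodd
      rw [Nat.not_even_iff_odd] at hodd
      have h1 := congrArg Matrix.det halt
      rw [Matrix.det_transpose, Matrix.det_neg, Fintype.card_fin, hodd.neg_one_pow, neg_one_mul] at h1
      have h3 : (2 : W) * u.det = 0 := by linear_combination h1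
      exact not_isUnit_zero (h3 ▸ h2W.mul hu.unit)
    let e : Fin m × Fin 2 ≃ Fin n := finProdFinEquiv.trans (finCongr (by omega))
    have hc := congr_stdAlt m h2W (u.submatrix e e) (by rw [Matrix.det_submatrix_equiv_self]; exact hu.unit)
      (by rw [Matrix.transpose_submatrix, halt]; rfl)
    have hc' := hc.reindex e
    rw [Matrix.reindex_apply, Matrix.submatrix_submatrix, Equiv.self_comp_symm, Matrix.submatrix_id_id] at hc'
    obtain ⟨T, _, _, _, _, g, hg, he⟩ := hc'
    letI : Algebra R T := ((algebraMap W T).comp (algebraMap R W)).toAlgebra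
    haveI : IsScalarTower R W T := IsScalarTower.of_algebraMap_eq fun x => rfl
    obtain ⟨h1, h1'⟩ := cover_trans (R := R) W T
    let j : W →ₐ[R] T := IsScalarTower.toAlgHom R W T
    have hgi : IsUnit (g⁻¹).det := Matrix.isUnit_nonsing_inv_det g hg
    have hH := (hu.push j).conj (G := conjHom (push j G) g⁻¹ hgi) hgi (conjHom_mul _ _ _)
    have hD : g⁻¹ * u.map j * (g⁻¹)ᵀ = (Matrix.reindex e e (stdAlt m)).map (Int.castRingHom T) := by
      rw [show u.map j = u.map (algebraMap W T) from rfl, he, Matrix.transpose_nonsing_inv, Matrix.mul_assoc g,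
        Matrix.nonsing_inv_mul_cancel_left _ _ hg,
        Matrix.mul_nonsing_inv_cancel_right _ _ (Matrix.isUnit_det_transpose _ hg)]
    rw [hD, show j (algebraMap R W (-1)) = -1 by simp] at hH
    haveI : Module.Finite R (Matrix (Fin m) (Fin m) (Matrix (Fin 2) (Fin 2) R)) :=
      Module.Finite.equiv (blockEquiv (R := R) m e).symm.toLinearEquiv
    haveI : Module.Projective R (Matrix (Fin m) (Fin m) (Matrix (Fin 2) (Fin 2) R)) :=
      Module.Projective.of_equiv (blockEquiv (R := R) m e).symm.toLinearEquiv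
    have h3 := up hH
    have h4 := twist_block hlam hl m e J hJ hJt hneg T
    have hs1 := isSplitting_comp_equiv (isSplitting_conjHom (isSplitting_push j hG) _ hgi) e1
    have hs2 : IsSplitting ((stdHom n T).comp (blockEquiv (R := R) m e).toAlgHom) :=
      isSplitting_comp_equiv (isSplitting_stdHom T) _
    have hloc := locIsoEt_of_twist (B := Matrix (Fin 1) (Fin 1) A)
      (B' := Matrix (Fin m) (Fin m) (Matrix (Fin 2) (Fin 2) R)) hrk1 (rank_block m e) hs1 hs2 h3 h4
    refine ⟨1, m, one_pos, by omega, ?_⟩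
    exact hloc

/-- signs obstruct local isomorphisms -/
theorem sign_eq_of_locIsoEt [Nontrivial R] {B : Type v} [Ring B] [Algebra R B] [Module.Finite R B] [Module.Projective R B]
    {B' : Type w} [Ring B'] [Algebra R B'] [Module.Finite R B'] [Module.Projective R B'] {n k : ℕ} (hn : 0 < n)
    (hrk : ∀ p : PrimeSpectrum R, rankAtStalk (R := R) B p = n ^ 2)
    (hrk' : ∀ p : PrimeSpectrum R, rankAtStalk (R := R) B' p = k ^ 2)
    {t : AzInv.LamInv R B lam} {t' : AzInv.LamInv R B' lam} (hloc : AzInv.LocIsoEt R lam t t')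
    (P : ∀ (S : Type u) [CommRing S] [Algebra R S], B →ₐ[R] Matrix (Fin n) (Fin n) S)
    (P' : ∀ (S : Type u) [CommRing S] [Algebra R S], B' →ₐ[R] Matrix (Fin k) (Fin k) S)
    (hP : ∀ (S : Type u) [CommRing S] [Algebra R S], IsSplitting (P S))
    (hP' : ∀ (S : Type u) [CommRing S] [Algebra R S], IsSplitting (P' S))
    {r r' : R}
    (hT : ∀ (S : Type u) [CommRing S] [Algebra R S], ∃ D, Twist t (P S) D (algebraMap R S r))
    (hT' : ∀ (S : Type u) [CommRing S] [Algebra R S], ∃ D, Twist t' (P' S) D (algebraMap R S r')) :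
    r = r' := by
  obtain ⟨S, _, _, hE, hFF, f, -, hf⟩ := hloc
  have hinj := algebraMap_injective_of_faithfullyFlat (R := R) (S := S)
  haveI : Nontrivial S := hinj.nontrivial
  obtain ⟨q⟩ := (inferInstance : Nonempty (PrimeSpectrum S))
  have hnk : k = n := by
    have h1 := congrFun (Module.rankAtStalk_eq_of_equiv f.toLinearEquiv) q
    rw [Module.rankAtStalk_baseChange, Module.rankAtStalk_baseChange, hrk, hrk'] at h1
    exact (Nat.pow_left_injective two_ne_zero h1).symm
  subst hnk
  let eE := AlgEquiv.ofBijective (ext (P' S)) (ext_bijective hrk' (hP' S))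
  let g := f.trans eE
  let F' := (g.toAlgHom.restrictScalars R).comp Algebra.TensorProduct.includeRight
  have hF' : IsSplitting F' := isSplitting_of_algEquiv g
  obtain ⟨D, hD⟩ := hT S
  obtain ⟨D', hD'⟩ := hT' S
  have ht' : Twist t F' D' (algebraMap R S r') := by
    refine ⟨hD'.unit, fun M => ?_, hD'.symm⟩
    show ext (P' S) (f (1 ⊗ₜ[R] t M)) * D' = D' * (ext (P' S) (f (1 ⊗ₜ[R] M)))ᵀ
    rw [← AzInv.LamInv.bc_tmul R lam S t (1 : S) M, hf, ext_bc hD']
  exact hinj (Twist.invariant hrk hn (hP S) hF' hD ht')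

variable [Nontrivial R] in
/-- the two types differ -/
theorem not_sameType (h2 : IsUnit (2 : R)) (hlam : ∀ r, lam r = r) (hl : ∀ r, lam (lam r) = r)
    (J : (Matrix (Fin 2) (Fin 2) R)ˣ) (hJ : (↑J : Matrix (Fin 2) (Fin 2) R) = Matrix.of ![![0, -1], ![1, 0]])
    (hJt : AzInv.LamInv.transpose lam (Fin 2) hl (↑J : Matrix (Fin 2) (Fin 2) R) = (-1 : R) • (↑J : Matrix (Fin 2) (Fin 2) R))
    (hneg : lam (-1) * (-1) = 1) :
    ¬ AzInv.SameType R lam (AzInv.LamInv.self lam hl)
      ((AzInv.LamInv.transpose lam (Fin 2) hl).conj J (-1) hJt hneg) := by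
  classical
  rintro ⟨a, b, ha, hb, hloc⟩
  let e0 : Fin b × Fin 2 ≃ Fin (b * 2) := finProdFinEquiv
  haveI : Module.Finite R (Matrix (Fin b) (Fin b) (Matrix (Fin 2) (Fin 2) R)) :=
    Module.Finite.equiv (blockEquiv (R := R) b e0).symm.toLinearEquiv
  haveI : Module.Projective R (Matrix (Fin b) (Fin b) (Matrix (Fin 2) (Fin 2) R)) :=
    Module.Projective.of_equiv (blockEquiv (R := R) b e0).symm.toLinearEquiv
  have h := sign_eq_of_locIsoEt (B := Matrix (Fin a) (Fin a) R)
    (B' := Matrix (Fin b) (Fin b) (Matrix (Fin 2) (Fin 2) R)) (n := a) (k := b * 2) (r := 1) (r' := -1) ha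
    rank_matrix_self (rank_block b e0) hloc (fun S _ _ => stdHom a S)
    (fun S _ _ => (stdHom (b * 2) S).comp (blockEquiv (R := R) b e0).toAlgHom)
    (fun S _ _ => isSplitting_stdHom S) (fun S _ _ => isSplitting_comp_equiv (isSplitting_stdHom S) _)
    (fun S _ _ => ⟨1, by rw [map_one]; exact twist_stdHom hlam hl S⟩)
    (fun S _ _ => ⟨_, by rw [map_neg, map_one]; exact twist_block hlam hl b e0 J hJ hJt hneg S⟩)
  have h0 : (2 : R) = 0 := by linear_combination h
  exact not_isUnit_zero (h0 ▸ h2)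

end AzType29
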