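import Groth.Agent.Lib.AzType29.Inner

/-!
# Automorphisms commuting with an involution are unitary-inner étale locally
-/

set_option autoImplicit false
set_option linter.style.haveILetI false

universe u v w

open Groth.Agent
open scoped TensorProduct

namespace AzType29

variable {R : Type v} [CommRing R] {A : Type w} [Ring A] [Algebra R A]

/-- Azumaya algebras are central -/
theorem mem_range_of_central [IsAzumaya R A] {z : A} (hz : ∀ x, z * x = x * z) :
    z ∈ Set.range (algebraMap R A) := by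
  classical
  have hend : ∀ (E : Module.End R A) (x : A), z * E x = E (z * x) := by
    intro E x
    obtain ⟨w, rfl⟩ := (IsAzumaya.bij (R := R) (A := A)).2 E
    induction w using TensorProduct.induction_on with
    | zero => simp
    | add a b ha hb => rw [map_add, LinearMap.add_apply, LinearMap.add_apply, mul_add, ha, hb]
    | tmul a b =>
      rw [AlgHom.mulLeftRight_apply, AlgHom.mulLeftRight_apply, ← mul_assoc, ← mul_assoc, ← mul_assoc, hz a]
  obtain ⟨m, f, g, hf, -, hfg⟩ := Module.Finite.exists_comp_eq_id_of_projective R A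
  let T : Ideal R := Ideal.span {r | ∃ (φ : A →ₗ[R] R) (y : A), φ y = r}
  have hle : (⊤ : Submodule R A) ≤ T • (⊤ : Submodule R A) := fun x _ => by
    have hx : x = ∑ i, g x i • f (Pi.single i 1) := by
      conv_lhs => rw [show x = f (g x) from (LinearMap.congr_fun hfg x).symm, pi_eq_sum_univ' (g x)]
      simp [map_sum, map_smul]
    rw [hx]
    refine Submodule.sum_mem _ fun i _ => Submodule.smul_mem_smul ?_ trivial
    exact Ideal.subset_span ⟨(LinearMap.proj i).comp g, x, rfl⟩
  obtain ⟨r, hr, hr0⟩ := Submodule.exists_sub_one_mem_and_smul_eq_zero_of_fg_of_le_smul T ⊤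
    Module.Finite.fg_top hle
  have hr' : r = 0 := FaithfulSMul.eq_of_smul_eq_smul (α := A) fun a => by
    rw [hr0 a trivial, zero_smul]
  rw [hr', zero_sub, neg_mem_iff] at hr
  have key : ∀ t ∈ T, t • z ∈ (Algebra.linearMap R A).range := fun t ht => by
    induction ht using Submodule.span_induction with
    | mem t ht =>
      obtain ⟨φ, y, rfl⟩ := ht
      refine ⟨φ (z * y), ?_⟩
      have h := hend ((Algebra.linearMap R A).comp φ) y
      simp only [LinearMap.comp_apply, Algebra.linearMap_apply] at h ⊢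
      rw [← h, Algebra.smul_def, Algebra.commutes]
    | zero => simp
    | add a b _ _ ha hb => rw [add_smul]; exact add_mem ha hb
    | smul c a _ ha => rw [smul_eq_mul, mul_smul]; exact Submodule.smul_mem _ _ ha
  have h1 := key 1 hr
  rw [one_smul] at h1
  exact h1

variable {S : Type u} [CommRing S] [Algebra S R] [Algebra S A] [IsScalarTower S R A] {lam : R ≃ₐ[S] R}

theorem bc_mul (t : AzInv.LamInv R A lam) (S' : Type u) [CommRing S'] [Algebra S S'] (x y : S' ⊗[S] A) :
    t.bc S lam S' (x * y) = t.bc S lam S' y * t.bc S lam S' x := by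
  induction x using TensorProduct.induction_on with
  | zero => simp
  | add x z hx hz => rw [add_mul, map_add, map_add, hx, hz, mul_add]
  | tmul s a =>
    induction y using TensorProduct.induction_on with
    | zero => simp
    | add y z hy hz => rw [mul_add, map_add, map_add, hy, hz, add_mul]
    | tmul s' a' =>
      rw [Algebra.TensorProduct.tmul_mul_tmul, AzInv.LamInv.bc_tmul, AzInv.LamInv.bc_tmul, AzInv.LamInv.bc_tmul,
        Algebra.TensorProduct.tmul_mul_tmul, t.map_mul, mul_comm s s']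

theorem bc_invol (t : AzInv.LamInv R A lam) (S' : Type u) [CommRing S'] [Algebra S S'] (x : S' ⊗[S] A) :
    t.bc S lam S' (t.bc S lam S' x) = x := by
  induction x using TensorProduct.induction_on with
  | zero => simp
  | add x z hx hz => rw [map_add, map_add, hx, hz]
  | tmul s a => rw [AzInv.LamInv.bc_tmul, AzInv.LamInv.bc_tmul, t.invol]

/-- the centre after flat base change -/
theorem exists_of_central [IsAzumaya R A] (S' : Type u) [CommRing S'] [Algebra S S'] [Module.Flat S S']
    {z : S' ⊗[S] A} (hz : ∀ a : A, z * ((1 : S') ⊗ₜ a) = ((1 : S') ⊗ₜ a) * z) :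
    ∃ γ, LinearMap.lTensor S' ((Algebra.linearMap R A).restrictScalars S) γ = z := by
  classical
  obtain ⟨G, hG⟩ := Module.Finite.fg_top (R := R) (M := A)
  let D : A →ₗ[S] (G → A) := LinearMap.pi fun g => LinearMap.mulRight S (g : A) - LinearMap.mulLeft S (g : A)
  have hex : Function.Exact ((Algebra.linearMap R A).restrictScalars S) D := by
    intro x
    constructor
    · intro hx
      refine mem_range_of_central fun y => ?_
      have hy : y ∈ Submodule.span R (G : Set A) := by rw [hG]; trivial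
      induction hy using Submodule.span_induction with
      | mem y hy => exact sub_eq_zero.1 (congrFun hx ⟨y, hy⟩)
      | zero => simp
      | add a b _ _ ha hb => rw [mul_add, add_mul, ha, hb]
      | smul c a _ ha => rw [mul_smul_comm, smul_mul_assoc, ha]
    · rintro ⟨r, rfl⟩
      funext g
      exact sub_eq_zero.2 (Algebra.commutes r (g : A))
  refine ((Module.Flat.lTensor_exact S' hex) z).1 ?_
  apply (TensorProduct.piRight S S S' fun _ : G => A).injective
  funext g
  have hcomp : ∀ w : S' ⊗[S] A, TensorProduct.piRight S S S' (fun _ : G => A) (D.lTensor S' w) g =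
      w * ((1 : S') ⊗ₜ (g : A)) - ((1 : S') ⊗ₜ (g : A)) * w := by
    intro w
    induction w using TensorProduct.induction_on with
    | zero => simp
    | add x y hx hy =>
      rw [map_add, map_add, Pi.add_apply, hx, hy, add_mul, mul_add]; abel
    | tmul s a =>
      simp [D, TensorProduct.tmul_sub]
  rw [hcomp, hz, sub_self, map_zero]
  rfl

/-- the fixed ring after flat base change -/
theorem exists_of_fixed (hfix : RInv.IsFixedRing S R lam.toRingEquiv) (S' : Type u) [CommRing S'] [Algebra S S']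
    [Module.Flat S S'] {γ : S' ⊗[S] R} (h : LinearMap.lTensor S' lam.toLinearMap γ = γ) :
    ∃ s : S', s ⊗ₜ (1 : R) = γ := by
  have hex : Function.Exact (Algebra.linearMap S R) (lam.toLinearMap - LinearMap.id : R →ₗ[S] R) := fun x => by
    rw [LinearMap.sub_apply, LinearMap.id_apply, sub_eq_zero]
    exact hfix.2 x
  obtain ⟨c, hc⟩ := ((Module.Flat.lTensor_exact S' hex) γ).1 (by
    rw [LinearMap.lTensor_sub, LinearMap.sub_apply, h]
    simp)
  refine ⟨TensorProduct.rid S S' c, ?_⟩
  rw [← hc]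
  clear hc
  induction c using TensorProduct.induction_on with
  | zero => simp
  | add x y hx hy =>
    rw [map_add, TensorProduct.add_tmul, hx, hy, map_add]
  | tmul s a =>
    rw [TensorProduct.rid_tmul, LinearMap.lTensor_tmul, Algebra.linearMap_apply, Algebra.algebraMap_eq_smul_one,
      TensorProduct.smul_tmul]

theorem algebraMap_bc_injective (hfix : RInv.IsFixedRing S R lam.toRingEquiv) [FaithfulSMul R A]
    (S' : Type u) [CommRing S'] [Algebra S S'] [Module.Flat S S'] :
    Function.Injective fun s : S' => (s ⊗ₜ (1 : A) : S' ⊗[S] A) := by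
  intro a b h
  have hinj : Function.Injective (Algebra.linearMap S A) := fun x y hxy =>
    hfix.1 (FaithfulSMul.algebraMap_injective R A (by
      simpa [← IsScalarTower.algebraMap_apply] using hxy))
  have h2 := Module.Flat.lTensor_preserves_injective_linearMap (M := S') _ hinj
  have := h2 (a₁ := a ⊗ₜ (1 : S)) (a₂ := b ⊗ₜ (1 : S)) (by simpa using h)
  simpa using congrArg (TensorProduct.rid S S') this

/-- unitary inner étale locally -/
theorem exists_unitary_cover [IsAzumaya R A] (hlam : ∀ r, lam (lam r) = r)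
    (hfix : RInv.IsFixedRing S R lam.toRingEquiv)
    (hsq : ∀ (S₁ : Type u) [CommRing S₁] [Algebra S S₁] [Algebra.Etale S S₁] (x : S₁ˣ),
      ∃ (S₂ : Type u) (_ : CommRing S₂) (_ : Algebra S₁ S₂) (_ : Algebra.Etale S₁ S₂)
        (_ : Module.FaithfullyFlat S₁ S₂) (y : S₂), y * y = algebraMap S₁ S₂ ↑x)
    (t : AzInv.LamInv R A lam) (ψ : A ≃ₐ[R] A) (hψ : AzInv.IsInvHom t t ψ) :
    ∃ (S' : Type u) (_ : CommRing S') (_ : Algebra S S') (_ : Algebra.Etale S S')
      (_ : Module.FaithfullyFlat S S') (u : (S' ⊗[S] A)ˣ),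
      t.bc S lam S' (↑u : S' ⊗[S] A) * ↑u = 1 ∧
        ∀ x : S' ⊗[S] A,
          Algebra.TensorProduct.congr (AlgEquiv.refl : S' ≃ₐ[S'] S') (ψ.restrictScalars S) x =
            ↑u * x * ↑u⁻¹ := by
  obtain ⟨S1, _, _, hE1, hF1, U, hU⟩ := exists_inner_cover lam hlam hfix ψ
  let τ := t.bc S lam S1
  have hτ1 : τ 1 = 1 := by
    show t.bc S lam S1 ((1 : S1) ⊗ₜ (1 : A)) = _
    rw [AzInv.LamInv.bc_tmul, t.map_one]; rfl
  let c : (S1 ⊗[S] A)ˣ := ⟨τ U * U, ↑U⁻¹ * τ ↑U⁻¹,
    by rw [mul_assoc, ← mul_assoc (U : S1 ⊗[S] A), Units.mul_inv, one_mul, ← bc_mul, Units.inv_mul]; exact hτ1,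
    by rw [mul_assoc, ← mul_assoc (τ ↑U⁻¹), ← bc_mul, Units.mul_inv]
       erw [hτ1]
       rw [one_mul, Units.inv_mul]⟩
  have hcomm : ∀ a : A, (c : S1 ⊗[S] A) * ((1 : S1) ⊗ₜ[S] a) = ((1 : S1) ⊗ₜ[S] a) * c := by
    intro a
    have h1 := hU ((1 : S1) ⊗ₜ[S] t a)
    rw [Algebra.TensorProduct.congr_apply, Algebra.TensorProduct.map_tmul] at h1
    have h2 := congrArg τ h1
    change t.bc S lam S1 ((1 : S1) ⊗ₜ ψ (t a)) = _ at h2
    rw [AzInv.LamInv.bc_tmul, hψ, t.invol, bc_mul, bc_mul, AzInv.LamInv.bc_tmul, t.invol] at h2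
    have h3 := hU ((1 : S1) ⊗ₜ[S] a)
    rw [Algebra.TensorProduct.congr_apply, Algebra.TensorProduct.map_tmul] at h3
    change (1 : S1) ⊗ₜ ψ a = _ at h3
    rw [h3] at h2
    show τ U * U * _ = _ * (τ U * U)
    have h4 := congrArg (fun z => τ (U : S1 ⊗[S] A) * z * U) h2
    simp only [← mul_assoc] at h4
    rw [← bc_mul, Units.inv_mul] at h4
    erw [hτ1] at h4
    simpa [mul_assoc] using h4
  have hfixed : ∀ z : (S1 ⊗[S] A)ˣ, (∀ a : A, (z : S1 ⊗[S] A) * ((1 : S1) ⊗ₜ[S] a) = ((1 : S1) ⊗ₜ[S] a) * z) →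
      τ z = z → ∃ s : S1, s ⊗ₜ (1 : A) = (z : S1 ⊗[S] A) := by
    intro z hz hτz
    obtain ⟨γ, hγ⟩ := exists_of_central (R := R) S1 hz
    have hinj := Module.Flat.lTensor_preserves_injective_linearMap (M := S1)
      ((Algebra.linearMap R A).restrictScalars S) (FaithfulSMul.algebraMap_injective R A)
    have hcompat : ∀ g, τ (LinearMap.lTensor S1 ((Algebra.linearMap R A).restrictScalars S) g) =
        LinearMap.lTensor S1 ((Algebra.linearMap R A).restrictScalars S) (LinearMap.lTensor S1 lam.toLinearMap g) := by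
      intro g
      induction g using TensorProduct.induction_on with
      | zero => simp
      | add x y hx hy => simp only [map_add, hx, hy]
      | tmul s r => simp [τ, t.map_algebraMap]
    obtain ⟨s, rfl⟩ := exists_of_fixed hfix S1 (hinj (by rw [← hcompat, hγ, hτz]) :
      LinearMap.lTensor S1 lam.toLinearMap γ = γ)
    exact ⟨s, by rw [← hγ]; simp⟩
  have hτc : τ c = c := by
    show τ (τ U * U) = τ U * U
    rw [bc_mul, bc_invol]
  have hcinv : ∀ a : A, (↑c⁻¹ : S1 ⊗[S] A) * ((1 : S1) ⊗ₜ[S] a) = ((1 : S1) ⊗ₜ[S] a) * ↑c⁻¹ := fun a => by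
    have : Commute (c : S1 ⊗[S] A) ((1 : S1) ⊗ₜ[S] a) := hcomm a
    exact this.units_inv_left.eq
  have hτcinv : τ (↑c⁻¹ : S1 ⊗[S] A) = ↑c⁻¹ := by
    refine left_inv_eq_right_inv (a := (c : S1 ⊗[S] A)) ?_ c.mul_inv
    rw [← hτc, ← bc_mul, Units.mul_inv]
    exact hτ1
  obtain ⟨s, hs⟩ := hfixed c hcomm hτc
  obtain ⟨s', hs'⟩ := hfixed c⁻¹ hcinv hτcinv
  haveI : FaithfulSMul R A := inferInstance
  have hss : s * s' = 1 := algebraMap_bc_injective hfix S1 (A := A) (by
    show (s * s') ⊗ₜ (1 : A) = (1 : S1) ⊗ₜ (1 : A)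
    rw [show (s * s') ⊗ₜ[S] (1 : A) = (s ⊗ₜ 1) * (s' ⊗ₜ 1) by rw [Algebra.TensorProduct.tmul_mul_tmul, mul_one],
      hs, hs', Units.mul_inv]
    rfl)
  obtain ⟨S2, _, _, hE2, hF2, y, hy⟩ := hsq S1 (Units.mkOfMulEqOne s s' hss)
  letI : Algebra S S2 := ((algebraMap S1 S2).comp (algebraMap S S1)).toAlgebra
  haveI : IsScalarTower S S1 S2 := IsScalarTower.of_algebraMap_eq fun x => rfl
  obtain ⟨hE, hF⟩ := cover_trans (R := S) S1 S2
  let π : S1 ⊗[S] A →ₐ[S] S2 ⊗[S] A :=
    Algebra.TensorProduct.map (IsScalarTower.toAlgHom S S1 S2) (AlgHom.id S A)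
  obtain ⟨y', hy'⟩ := (isUnit_of_mul_isUnit_left (hy ▸ (Units.mkOfMulEqOne s s' hss).isUnit.map (algebraMap S1 S2)) :
    IsUnit y).exists_left_inv
  let Y : (S2 ⊗[S] A)ˣ := Units.map (algebraMap S2 (S2 ⊗[S] A)).toMonoidHom (Units.mkOfMulEqOne y' y hy')
  let u : (S2 ⊗[S] A)ˣ := Y * Units.map π.toRingHom.toMonoidHom U
  have hu : (u : S2 ⊗[S] A) = y' • π (U : S1 ⊗[S] A) := by
    simp [u, Y, Algebra.smul_def]
  refine ⟨S2, inferInstance, inferInstance, hE, hF, u, ?_, fun x => ?_⟩
  · have hπτ : ∀ z, t.bc S lam S2 (π z) = π (τ z) := by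
      intro z
      induction z using TensorProduct.induction_on with
      | zero => simp
      | add x y hx hy => simp only [map_add, hx, hy]
      | tmul s a => simp [π, τ]
    rw [hu, map_smul, hπτ, smul_mul_smul_comm, ← map_mul, show τ (U : S1 ⊗[S] A) * (U : S1 ⊗[S] A) = s ⊗ₜ[S] (1 : A) from hs.symm]
    simp only [π, Algebra.TensorProduct.map_tmul, map_one, TensorProduct.smul_tmul', smul_eq_mul,
      IsScalarTower.coe_toAlgHom']
    rw [show algebraMap S1 S2 s = y * y from hy.symm,
      show y' * y' * (y * y) = (y' * y) * (y' * y) by ring, hy', one_mul]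
    rfl
  · suffices h : Algebra.TensorProduct.congr (AlgEquiv.refl : S2 ≃ₐ[S2] S2) (ψ.restrictScalars S) x * (u : S2 ⊗[S] A) = u * x by
      rw [← h, Units.mul_inv_cancel_right]
    induction x using TensorProduct.induction_on with
    | zero => simp
    | add x y hx hy => rw [map_add, add_mul, mul_add, hx, hy]
    | tmul d a =>
      rw [Algebra.TensorProduct.congr_apply, Algebra.TensorProduct.map_tmul, hu]
      have h3 := hU ((1 : S1) ⊗ₜ[S] a)
      rw [Algebra.TensorProduct.congr_apply, Algebra.TensorProduct.map_tmul] at h3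
      have h4 := congrArg π (show ((1 : S1) ⊗ₜ ψ a) * (U : S1 ⊗[S] A) = (U : S1 ⊗[S] A) * ((1 : S1) ⊗ₜ[S] a) by
        change (1 : S1) ⊗ₜ ψ a = _ at h3
        rw [h3, Units.inv_mul_cancel_right])
      simp only [map_mul, π, Algebra.TensorProduct.map_tmul, map_one, AlgHom.id_apply] at h4
      change (d ⊗ₜ[S] ψ a) * _ = _
      have hd : ∀ b : A, d ⊗ₜ[S] b = d • ((1 : S2) ⊗ₜ[S] b) := fun b => by
        rw [TensorProduct.smul_tmul', smul_eq_mul, mul_one]
      rw [hd (ψ a), hd a]
      simp only [smul_mul_smul_comm, π, mul_comm d]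
      exact congrArg _ h4

end AzType29
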